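import Mathlib
import Cfsg.Prelude.Def_Blocks
import Cfsg.Agent.Blocks.ExistsModular
import Cfsg.Agent.S0953
import Cfsg.Agent.H593.D1Lower
import Cfsg.Agent.CharactersDeep.SmallDegree
import Cfsg.Agent.H656.PM2Struct
import Cfsg.Agent.Characters.Linear
import Cfsg.Agent.Characters.ClassMul
import Cfsg.Agent.Classification.QDW.CentralEnd
import Cfsg.Agent.H656.PM2Centre
import Cfsg.Agent.CharactersDeep.Extraspecial
set_option linter.all false

-- part: H656/PM2Block
section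
/-!
# Blocks over central characters when `|N_G(P) : C_G(P)| = 2`

`P` is a Sylow `p`-subgroup of order `p`, `C_G(P) = P × L` with `L` central in `G` and
`|N_G(P) : C_G(P)| = 2`. The characters of `G` over a character `θ` of `L` which do not vanish on
`P \ {1}` are `χ₁`, `χ₂` and `(p - 1) / 2` exceptional ones.
-/

set_option autoImplicit false
set_option linter.unusedSectionVars false
set_option linter.unusedVariables false

namespace Cfsg.Agent.H656.PM2Block

open Cfsg ZMod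
open scoped ComplexConjugate
open Cfsg.Agent.Blocks.Local
open Cfsg.Agent.Blocks.Basic
open Cfsg.Agent.Blocks.CyclicGroup
open Cfsg.Agent.H593.D1Local
open Cfsg.Agent.H593.D1Char
open Cfsg.Agent.H593.D1Sec
open Cfsg.Agent.H593.D1Gram
open Cfsg.Agent.H593.D1Block
open Cfsg.Agent.H593.D1Block2

/-- The combinatorial part. -/
theorem comb {I Ω : Type*} [Fintype I] [Fintype Ω] [DecidableEq Ω] (hΩ : 2 ≤ Fintype.card Ω)
    (a : I → Ω → ℤ)
    (hrows : ∀ χ, (∀ i, a χ i = 1) ∨ (∀ i, a χ i = -1) ∨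
        (∃ i₀, ∀ i, a χ i = if i = i₀ then 1 else 0) ∨
        (∃ i₀, ∀ i, a χ i = if i = i₀ then -1 else 0))
    (hgram : ∀ i j, ∑ χ, a χ i * a χ j = (2 : ℤ) + if i = j then 1 else 0) :
    ∃ (c₁ c₂ : I) (a₁ a₂ : ℤ) (Ψ : Ω → I) (s : Ω → ℤ), c₁ ≠ c₂ ∧ (a₁ = 1 ∨ a₁ = -1) ∧
      (a₂ = 1 ∨ a₂ = -1) ∧ (∀ i, a c₁ i = -a₁) ∧ (∀ i, a c₂ i = -a₂) ∧
      (∀ ω, s ω = 1 ∨ s ω = -1) ∧ (∀ ω i, a (Ψ ω) i = if i = ω then s ω else 0) ∧
      (∀ c, c = c₁ ∨ c = c₂ ∨ ∃ ω, c = Ψ ω) ∧ Function.Injective Ψ ∧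
      (∀ ω, Ψ ω ≠ c₁ ∧ Ψ ω ≠ c₂) := by
  classical
  have hnt : Nontrivial Ω := Fintype.one_lt_card_iff_nontrivial.1 (by omega)
  obtain ⟨i₁, i₂, hi⟩ := exists_pair_ne Ω
  let X : Finset I := Finset.univ.filter fun c => ∀ i j, a c i = a c j
  have hXmem : ∀ c, c ∈ X ↔ ∀ i j, a c i = a c j := fun c => by simp [X]
  have hX1 : ∀ c ∈ X, (∀ i, a c i = 1) ∨ (∀ i, a c i = -1) := by
    intro c hc
    rw [hXmem] at hc
    rcases hrows c with h | h | ⟨i₀, h⟩ | ⟨i₀, h⟩
    · exact Or.inl h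
    · exact Or.inr h
    · exfalso
      obtain ⟨j, hj⟩ := exists_ne i₀
      have h1 := hc i₀ j
      rw [h, h, if_pos rfl, if_neg hj] at h1
      exact one_ne_zero h1
    · exfalso
      obtain ⟨j, hj⟩ := exists_ne i₀
      have h1 := hc i₀ j
      rw [h, h, if_pos rfl, if_neg hj] at h1
      norm_num at h1
  have hY1 : ∀ c, c ∉ X → ∃ (s : ℤ) (i₀ : Ω), (s = 1 ∨ s = -1) ∧
      ∀ i, a c i = if i = i₀ then s else 0 := by
    intro c hc
    rw [hXmem] at hc
    rcases hrows c with h | h | ⟨i₀, h⟩ | ⟨i₀, h⟩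
    · exact absurd (fun i j => by rw [h, h]) hc
    · exact absurd (fun i j => by rw [h, h]) hc
    · exact ⟨1, i₀, Or.inl rfl, h⟩
    · exact ⟨-1, i₀, Or.inr rfl, h⟩
  have hX2 : ∀ c ∈ X, ∀ i j, a c i * a c j = 1 := by
    intro c hc i j
    rcases hX1 c hc with h | h <;> rw [h, h] <;> rfl
  have hXc : X.card = 2 := by
    have h1 := hgram i₁ i₂
    rw [if_neg hi, add_zero] at h1
    have h2 : ∑ χ, a χ i₁ * a χ i₂ = ∑ χ, if χ ∈ X then (1 : ℤ) else 0 := by
      refine Finset.sum_congr rfl fun c _ => ?_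
      by_cases hc : c ∈ X
      · rw [if_pos hc, hX2 c hc]
      · rw [if_neg hc]
        obtain ⟨s, i₀, -, h⟩ := hY1 c hc
        rw [h, h]
        by_cases h3 : i₁ = i₀
        · rw [if_neg (fun h4 : i₂ = i₀ => hi (h3.trans h4.symm)), mul_zero]
        · rw [if_neg h3, zero_mul]
    rw [h2, Finset.sum_boole] at h1
    have h3 : Finset.univ.filter (fun χ => χ ∈ X) = X := by ext; simp
    rw [h3] at h1
    exact_mod_cast h1
  have hone : ∀ ω : Ω, ((Finset.univ.filter fun c => c ∉ X ∧ a c ω ≠ 0).card : ℤ) = 1 := by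
    intro ω
    have h1 := hgram ω ω
    rw [if_pos rfl] at h1
    have h2 : ∀ c, a c ω * a c ω = (if c ∈ X then (1 : ℤ) else 0) +
        (if c ∉ X ∧ a c ω ≠ 0 then (1 : ℤ) else 0) := by
      intro c
      by_cases hc : c ∈ X
      · rw [if_pos hc, if_neg (fun h => h.1 hc), hX2 c hc, add_zero]
      · rw [if_neg hc]
        obtain ⟨s, i₀, hs, h⟩ := hY1 c hc
        rw [h]
        by_cases h3 : ω = i₀
        · rw [if_pos h3]
          rcases hs with h4 | h4 <;> rw [h4, if_pos ⟨hc, by norm_num⟩] <;> norm_num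
        · rw [if_neg h3]
          simp
    rw [Finset.sum_congr rfl fun c _ => h2 c, Finset.sum_add_distrib, Finset.sum_boole,
      Finset.sum_boole] at h1
    have h3 : Finset.univ.filter (fun χ => χ ∈ X) = X := by ext; simp
    rw [h3, hXc] at h1
    push_cast at h1
    linarith
  obtain ⟨c₁, c₂, hne, hX⟩ := Finset.card_eq_two.1 hXc
  have hc₁ : c₁ ∈ X := by rw [hX]; simp
  have hc₂ : c₂ ∈ X := by rw [hX]; simp
  have hex : ∀ ω, ∃ c, (c ∉ X ∧ a c ω ≠ 0) ∧ ∀ d, d ∉ X → a d ω ≠ 0 → d = c := by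
    intro ω
    have h1 : (Finset.univ.filter fun c => c ∉ X ∧ a c ω ≠ 0).card = 1 := by
      exact_mod_cast hone ω
    obtain ⟨c, hc⟩ := Finset.card_eq_one.1 h1
    have h2 : c ∈ Finset.univ.filter fun c => c ∉ X ∧ a c ω ≠ 0 := by rw [hc]; simp
    refine ⟨c, (Finset.mem_filter.1 h2).2, fun d hd hd' => ?_⟩
    have h3 : d ∈ Finset.univ.filter fun c => c ∉ X ∧ a c ω ≠ 0 :=
      Finset.mem_filter.2 ⟨Finset.mem_univ _, hd, hd'⟩
    rw [hc] at h3
    exact Finset.mem_singleton.1 h3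
  choose Ψ hΨ hΨ' using hex
  have hsgn : ∀ c ∈ X, ∃ b : ℤ, (b = 1 ∨ b = -1) ∧ ∀ i, a c i = -b := by
    intro c hc
    rcases hX1 c hc with h | h
    · exact ⟨-1, Or.inr rfl, fun i => by rw [h]; rfl⟩
    · exact ⟨1, Or.inl rfl, fun i => by rw [h]⟩
  obtain ⟨a₁, ha₁, h1⟩ := hsgn c₁ hc₁
  obtain ⟨a₂, ha₂, h2⟩ := hsgn c₂ hc₂
  have hs : ∀ ω, ∃ s : ℤ, (s = 1 ∨ s = -1) ∧ ∀ i, a (Ψ ω) i = if i = ω then s else 0 := by
    intro ω
    obtain ⟨s, i₀, hs, h⟩ := hY1 (Ψ ω) (hΨ ω).1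
    have h3 : ω = i₀ := by
      by_contra hcon
      apply (hΨ ω).2
      rw [h, if_neg hcon]
    subst h3
    exact ⟨s, hs, h⟩
  choose s hs1 hs2 using hs
  refine ⟨c₁, c₂, a₁, a₂, Ψ, s, hne, ha₁, ha₂, h1, h2, hs1, hs2, ?_, ?_, ?_⟩
  rotate_left
  · intro ω ω' hω
    by_contra hcon
    have h3 := hs2 ω ω
    rw [if_pos rfl, hω, hs2, if_neg hcon] at h3
    rcases hs1 ω with h | h <;> rw [h] at h3 <;> norm_num at h3
  · intro ω
    exact ⟨fun h3 => (hΨ ω).1 (h3 ▸ hc₁), fun h3 => (hΨ ω).1 (h3 ▸ hc₂)⟩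
  intro c
  by_cases hc : c ∈ X
  · rw [hX] at hc
    simp only [Finset.mem_insert, Finset.mem_singleton] at hc
    rcases hc with h | h
    · exact Or.inl h
    · exact Or.inr (Or.inl h)
  · right; right
    obtain ⟨t, i₀, ht, h⟩ := hY1 c hc
    refine ⟨i₀, hΨ' i₀ c hc ?_⟩
    rw [h, if_pos rfl]
    rcases ht with h | h <;> rw [h] <;> norm_num

variable {G : Type*} [Group G] [Fintype G] {p : ℕ} [hp : Fact p.Prime] {K : Subgroup G}

/-- The characters over `θ`. -/
theorem apply_mul_of_ne {P : Subgroup G} [Fintype (LL P K)]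
    (hc : ∀ l : LL P K, ((l : K) : G) ∈ Subgroup.center G)
    (θ : IrrCharacter (LL P K)) (χ : IrrCharacter G) {x : G}
    (hne : DD (θ : LL P K → ℂ) (χ : G → ℂ) x ≠ 0) :
    (θ : LL P K → ℂ) 1 = 1 ∧ ∀ (g : G) (l : LL P K), (χ : G → ℂ) (g * ((l : K) : G)) = (χ : G → ℂ) g * (θ : LL P K → ℂ) l := by
  classical
  have hcomm : ∀ l l' : LL P K, l * l' = l' * l := by
    intro l l'
    apply Subtype.ext
    apply Subtype.ext
    exact Subgroup.mem_center_iff.1 (hc l') ((l : K) : G)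
  have hω : ∀ l : LL P K, ∃ ω : ℂ, ‖ω‖ = 1 ∧ ∀ g, (χ : G → ℂ) (g * ((l : K) : G)) = ω * (χ : G → ℂ) g :=
    fun l => Cfsg.Agent.CharactersDeep.SmallDegree.exists_central_mul χ.2
      (fun g => Subgroup.mem_center_iff.1 (hc l) g)
  choose μ hμ1 hμ using hω
  have hθω : ∀ l : LL P K, ∃ ω : ℂ, ‖ω‖ = 1 ∧ ∀ g, (θ : LL P K → ℂ) (g * l) = ω * (θ : LL P K → ℂ) g :=
    fun l => Cfsg.Agent.CharactersDeep.SmallDegree.exists_central_mul θ.2 (fun g => hcomm g l)
  choose ν hν1 hν using hθω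
  obtain ⟨d, hd, hd1⟩ := Cfsg.Agent.Characters.Core.isIrr_apply_one θ.2
  obtain ⟨e, he, he1⟩ := Cfsg.Agent.Characters.Core.isIrr_apply_one χ.2
  have hd0 : (θ : LL P K → ℂ) 1 ≠ 0 := by rw [hd1]; exact_mod_cast hd.ne'
  have he0 : (χ : G → ℂ) 1 ≠ 0 := by rw [he1]; exact_mod_cast he.ne'
  -- the product `μ ν̄` is a homomorphism with nonzero sum
  have hμm : ∀ l l', μ (l * l') = μ l * μ l' := by
    intro l l'
    have h1 := hμ (l * l') 1
    have h2 := hμ l' (1 * ((l : K) : G))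
    rw [hμ l 1, mul_assoc] at h2
    push_cast at h1
    rw [h1] at h2
    apply mul_right_cancel₀ he0
    rw [h2]
    ring
  have hνm : ∀ l l', ν (l * l') = ν l * ν l' := by
    intro l l'
    have h1 := hν (l * l') 1
    have h2 := hν l' (1 * l)
    rw [hν l 1, mul_assoc] at h2
    rw [h1] at h2
    apply mul_right_cancel₀ hd0
    rw [h2]
    ring
  have hsum : ∑ l : LL P K, μ l * conj (ν l) ≠ 0 := by
    intro h0
    apply hne
    rw [DD_def]
    have h1 : ∀ l : LL P K, (χ : G → ℂ) (x * ((l : K) : G)) * conj ((θ : LL P K → ℂ) l) =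
        ((χ : G → ℂ) x * conj ((θ : LL P K → ℂ) 1)) * (μ l * conj (ν l)) := by
      intro l
      have h2 := hν l 1
      rw [one_mul] at h2
      rw [hμ l x, h2, map_mul]
      ring
    rw [Finset.sum_congr rfl fun l _ => h1 l, ← Finset.mul_sum, h0, mul_zero, mul_zero]
  have heq : ∀ l, μ l = ν l := by
    intro l
    have h1 : (μ l * conj (ν l)) * ∑ l' : LL P K, μ l' * conj (ν l') =
        ∑ l' : LL P K, μ l' * conj (ν l') := by
      rw [Finset.mul_sum]
      refine (Finset.sum_congr rfl fun l' _ => ?_).trans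
        (Equiv.sum_comp (Equiv.mulLeft l) (fun l' => μ l' * conj (ν l')))
      rw [Equiv.coe_mulLeft, hμm, hνm, map_mul]
      ring
    have h2 : μ l * conj (ν l) = 1 := by
      apply mul_right_cancel₀ hsum
      rw [h1, one_mul]
    have h3 : ν l * conj (ν l) = 1 := by
      rw [Complex.mul_conj, Complex.normSq_eq_norm_sq, hν1]; norm_num
    have h4 : conj (ν l) ≠ 0 := by
      intro h5
      rw [h5, mul_zero] at h3
      exact zero_ne_one h3
    exact mul_right_cancel₀ h4 (h2.trans h3.symm)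
  have hθ1 : (θ : LL P K → ℂ) 1 = 1 := by
    have h1 := Cfsg.Agent.Characters.Core.classInner_irr_self θ.2
    rw [Cfsg.Agent.Characters.Core.classInner_def] at h1
    have h2 : ∀ l : LL P K, (θ : LL P K → ℂ) l * conj ((θ : LL P K → ℂ) l) = (d : ℂ) ^ 2 := by
      intro l
      have h3 := hν l 1
      rw [one_mul] at h3
      have h4 : ν l * conj (ν l) = 1 := by
        rw [Complex.mul_conj, Complex.normSq_eq_norm_sq, hν1]; norm_num
      rw [h3, hd1, map_mul, Complex.conj_natCast]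
      linear_combination ((d : ℂ) ^ 2) * h4
    rw [Finset.sum_congr rfl fun l _ => h2 l, Finset.sum_const, Finset.card_univ, nsmul_eq_mul,
      ← Nat.card_eq_fintype_card, inv_mul_cancel_left₀ (by exact_mod_cast Nat.card_pos.ne')] at h1
    have h3 : d ^ 2 = 1 := by exact_mod_cast h1
    have h4 : d = 1 := by
      have := (Nat.pow_eq_one.1 h3)
      rcases this with h | h
      · exact h
      · omega
    rw [hd1, h4, Nat.cast_one]
  refine ⟨hθ1, fun g l => ?_⟩
  have h3 := hν l 1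
  rw [one_mul, hθ1, mul_one] at h3
  rw [hμ l g, h3, heq l, mul_comm]

/-- The coefficient function of a character over `θ`. -/
theorem DD_of_mul {P : Subgroup G} [Fintype (LL P K)] (θ : IrrCharacter (LL P K)) (χ : G → ℂ)
    (hχ : ∀ (g : G) (l : LL P K), χ (g * ((l : K) : G)) = χ g * (θ : LL P K → ℂ) l) (x : G) :
    DD (θ : LL P K → ℂ) χ x = χ x := by
  have h1 := Cfsg.Agent.Characters.Core.classInner_irr_self θ.2
  rw [Cfsg.Agent.Characters.Core.classInner_def] at h1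
  rw [DD_def]
  have h2 : ∀ l : LL P K, χ (x * ((l : K) : G)) * conj ((θ : LL P K → ℂ) l) =
      χ x * ((θ : LL P K → ℂ) l * conj ((θ : LL P K → ℂ) l)) := by
    intro l
    rw [hχ]
    ring
  rw [Finset.sum_congr rfl fun l _ => h2 l, ← Finset.mul_sum, mul_left_comm, h1, mul_one]

/-- **The characters over `θ` not vanishing on `P \ {1}`.** -/
theorem main (P : Sylow p G) (h : Loc p (P : Subgroup G) K) [Fintype (LL (P : Subgroup G) K)]
    [Fintype (IrrCharacter G)]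
    (hc : ∀ l : LL (P : Subgroup G) K, ((l : K) : G) ∈ Subgroup.center G)
    (hi : (LL (P : Subgroup G) K).index = 2) (h5 : 5 ≤ p) {z : G} (hz : orderOf z = p)
    (hzP : z ∈ (P : Subgroup G)) (θ : IrrCharacter (LL (P : Subgroup G) K)) (χ₀ : IrrCharacter G)
    (hχ₀ : ¬ p ∣ charDegree (χ₀ : G → ℂ)) {m₀ : ZMod p} (hm₀ : m₀ ≠ 0)
    (hne : DD (θ : LL (P : Subgroup G) K → ℂ) (χ₀ : G → ℂ) (u z m₀) ≠ 0) :
    ∃ (χ₁ χ₂ : IrrCharacter G) (a₁ a₂ : ℤ) (Ω : Type) (_ : Fintype Ω) (Ψ : Ω → IrrCharacter G)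
      (ε : Ω → ℤ), χ₁ ≠ χ₂ ∧ (a₁ = 1 ∨ a₁ = -1) ∧ (a₂ = 1 ∨ a₂ = -1) ∧
      (∀ ω, ε ω = 1 ∨ ε ω = -1) ∧ 2 * Fintype.card Ω = p - 1 ∧
      (∀ (W : IrrCharacter G → ℂ) (S : ℂ), (∀ m : ZMod p, m ≠ 0 →
        ∑ χ, W χ * conj (DD (θ : LL (P : Subgroup G) K → ℂ) (χ : G → ℂ) (u z m)) = S) →
        ∀ ω, a₁ * W χ₁ + a₂ * W χ₂ - ε ω * W (Ψ ω) = S) ∧
      (∀ g : G, ¬ p ∣ orderOf g → ∀ ω,
        a₁ * (χ₁ : G → ℂ) g + a₂ * (χ₂ : G → ℂ) g = ε ω * (Ψ ω : G → ℂ) g) ∧
      (∀ m : ZMod p, m ≠ 0 → (χ₁ : G → ℂ) (u z m) = a₁) ∧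
      (∀ m : ZMod p, m ≠ 0 → (χ₂ : G → ℂ) (u z m) = a₂) ∧
      (∀ ω, ∑ m : (ZMod p)ˣ, (Ψ ω : G → ℂ) (u z (m : ZMod p)) = -2 * ε ω) ∧
      (∀ χ : IrrCharacter G, (χ = χ₁ ∨ χ = χ₂ ∨ ∃ ω, χ = Ψ ω) →
        ∀ (g : G) (l : LL (P : Subgroup G) K),
          (χ : G → ℂ) (g * ((l : K) : G)) = (χ : G → ℂ) g * (θ : LL (P : Subgroup G) K → ℂ) l) ∧
      (∀ χ : IrrCharacter G, (∃ m : ZMod p, m ≠ 0 ∧
        DD (θ : LL (P : Subgroup G) K → ℂ) (χ : G → ℂ) (u z m) ≠ 0) →
          χ = χ₁ ∨ χ = χ₂ ∨ ∃ ω, χ = Ψ ω) ∧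
      Function.Injective Ψ ∧ (∀ ω, Ψ ω ≠ χ₁ ∧ Ψ ω ≠ χ₂) ∧
      (∀ ω, ∑ m : (ZMod p)ˣ, (Ψ ω : G → ℂ) (u z (m : ZMod p)) *
        conj ((Ψ ω : G → ℂ) (u z (m : ZMod p))) = 2 * p - 4) := by
  classical
  have := Fintype.ofFinite K
  obtain ⟨M, hM⟩ := Cfsg.Agent.Blocks.ExistsModular.exists_isPModular (Fact.out : p.Prime)
  have hMp : M.IsPrime := hM.2.1.isPrime
  obtain ⟨B, hBdef⟩ : ∃ B, B = blockOf M (χ₀ : G → ℂ) := ⟨_, rfl⟩
  have hB : IsPBlock M B := ⟨χ₀, hBdef⟩
  have hχB : χ₀ ∈ B := by rw [hBdef]; exact mem_blockOf_self χ₀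
  have : Fintype B := Fintype.ofFinite _
  have hBP : IsDefectGroup p M B (P : Subgroup G) :=
    Cfsg.Agent.S0953.isDefectGroup_of_degree hM P hB hχB hχ₀
  have hG : (Nat.card G).factorization p = 1 := by
    have h1 := (P.card_eq_multiplicity).symm.trans h.card
    exact Nat.pow_right_injective hp.out.two_le (by simpa using h1)
  have hu1 : ∀ m : ZMod p, m ≠ 0 → u z m ≠ 1 := fun m hm h => hm ((u_eq_one_iff hz).1 h)
  have huP : ∀ m : ZMod p, u z m ∈ (P : Subgroup G) := fun m => u_mem_P h hz hzP m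
  have hind := induced_of_ne h hM (huP m₀) (hu1 m₀ hm₀) hB hχB hne
  obtain ⟨Ω, hΩ1, hΩ2, Wt, a, hmul, hcard, hrows, hgram, hWt, hWt0, hWt1, hconst, hsum,
    hsq⟩ :=
    PM2Struct.structure_thm' h hM hB hBP hind hz hzP hG
      (fun ψ hψ => Cfsg.Agent.H593.D1Lower.lower h hM hB hind hz hzP ψ hψ)
  have hrel : (LL (P : Subgroup G) K).relIndex (stab h θ) = 2 := by
    have h1 : stab h θ = ⊤ := by
      rw [eq_top_iff]
      intro k _
      rw [mem_stab]
      apply Subtype.ext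
      funext l
      rw [cj_apply]
      refine congrArg (θ : LL (P : Subgroup G) K → ℂ) (Subtype.ext (Subtype.ext ?_))
      show (k : G) * ((l : K) : G) * (k : G)⁻¹ = ((l : K) : G)
      have h2 := Subgroup.mem_center_iff.1 (hc l) (k : G)
      rw [h2, mul_assoc, mul_inv_cancel, mul_one]
    rw [h1, Subgroup.relIndex_top_right, hi]
  rw [hrel] at hmul hcard
  simp only [hrel] at hgram hsum hsq
  push_cast at hgram hsum hsq
  obtain ⟨c₁, c₂, a₁, a₂, Ψ, s, hne12, ha₁, ha₂, hc₁, hc₂, hs, hΨ, hall, hinj, hdisj⟩ := comb (by omega) a hrows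
    (by simpa using hgram)
  have hmulB : ∀ χ : B, (θ : LL (P : Subgroup G) K → ℂ) 1 = 1 ∧
      ∀ (g : G) (l : LL (P : Subgroup G) K), ((χ : IrrCharacter G) : G → ℂ) (g * ((l : K) : G)) =
        ((χ : IrrCharacter G) : G → ℂ) g * (θ : LL (P : Subgroup G) K → ℂ) l := by
    intro χ
    obtain ⟨m, hm, hm'⟩ :=
      Cfsg.Agent.H593.D1Block3.exists_DD_ne h hM hB hBP hind hz hzP hG χ.2
    exact apply_mul_of_ne hc θ χ hm'
  have hDD : ∀ (χ : B) (x : G), DD (θ : LL (P : Subgroup G) K → ℂ)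
      ((χ : IrrCharacter G) : G → ℂ) x = ((χ : IrrCharacter G) : G → ℂ) x :=
    fun χ x => DD_of_mul θ _ (hmulB χ).2 x
  have hW : ∀ (W : IrrCharacter G → ℂ) (S : ℂ), (∀ m : ZMod p, m ≠ 0 →
        ∑ χ, W χ * conj (DD (θ : LL (P : Subgroup G) K → ℂ) (χ : G → ℂ) (u z m)) = S) →
        ∀ ω, a₁ * W (c₁ : IrrCharacter G) + a₂ * W (c₂ : IrrCharacter G) -
          s ω * W (Ψ ω : IrrCharacter G) = S := by
    intro W S hS ω
    have h1 : ∑ c : B, (a c ω : ℂ) * W (c : IrrCharacter G) = -S := by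
      have h2 : ∀ c : B, (a c ω : ℂ) * W (c : IrrCharacter G) =
          ∑ m : ZMod p, Wt ω m * (W (c : IrrCharacter G) *
            conj (DD (θ : LL (P : Subgroup G) K → ℂ)
              ((c : IrrCharacter G) : G → ℂ) (u z m))) := by
        intro c
        rw [hWt, Finset.sum_mul]
        exact Finset.sum_congr rfl fun m _ => by ring
      rw [Finset.sum_congr rfl fun c _ => h2 c, Finset.sum_comm]
      have h3 : ∀ m : ZMod p, ∑ c : B, Wt ω m * (W (c : IrrCharacter G) *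
            conj (DD (θ : LL (P : Subgroup G) K → ℂ)
              ((c : IrrCharacter G) : G → ℂ) (u z m))) = Wt ω m * S := by
        intro m
        rw [← Finset.mul_sum]
        by_cases hm : m = 0
        · rw [hm, hWt0, zero_mul, zero_mul]
        · rw [sum_block_eq h hM hB hind (huP m) (hu1 m hm) W, hS m hm]
      rw [Finset.sum_congr rfl fun m _ => h3 m, ← Finset.sum_mul, hWt1]
      ring
    have h2 : ∑ c : B, (a c ω : ℂ) * W (c : IrrCharacter G) =
        -(a₁ : ℂ) * W (c₁ : IrrCharacter G) + -(a₂ : ℂ) * W (c₂ : IrrCharacter G) +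
          s ω * W (Ψ ω : IrrCharacter G) := by
      have hΨ1 : Ψ ω ≠ c₁ := (hdisj ω).1
      have hΨ2 : Ψ ω ≠ c₂ := (hdisj ω).2
      rw [← Finset.sum_subset (Finset.subset_univ ({c₁, c₂, Ψ ω} : Finset B))]
      · rw [Finset.sum_insert (by
            simp only [Finset.mem_insert, Finset.mem_singleton, not_or]
            exact ⟨hne12, hΨ1.symm⟩),
          Finset.sum_insert (by
            simp only [Finset.mem_singleton]
            exact hΨ2.symm), Finset.sum_singleton, hc₁, hc₂, hΨ, if_pos rfl]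
        push_cast
        ring
      · intro c _ hc'
        simp only [Finset.mem_insert, Finset.mem_singleton, not_or] at hc'
        rcases hall c with h3 | h3 | ⟨ω', h3⟩
        · exact absurd h3 hc'.1
        · exact absurd h3 hc'.2.1
        · have h4 : ω ≠ ω' := by
            rintro rfl
            exact hc'.2.2 h3
          rw [h3, hΨ, if_neg h4, Int.cast_zero, zero_mul]
    rw [h2] at h1
    linear_combination -h1
  have hsum1 : ∀ ω, ∑ i, (a (Ψ ω) i : ℂ) = s ω := by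
    intro ω
    have h3 : ∀ i, (a (Ψ ω) i : ℂ) = if i = ω then (s ω : ℂ) else 0 := by
      intro i
      rw [hΨ]
      split_ifs <;> simp
    rw [Finset.sum_congr rfl fun i _ => h3 i, Finset.sum_ite_eq' Finset.univ ω,
      if_pos (Finset.mem_univ _)]
  refine ⟨c₁, c₂, a₁, a₂, Ω, inferInstance, fun ω => (Ψ ω : IrrCharacter G), s,
    fun h3 => hne12 (Subtype.ext h3), ha₁, ha₂, hs, hmul, hW, ?_, ?_, ?_, ?_, ?_, ?_,
    fun ω ω' h3 => hinj (Subtype.ext h3), fun ω => ⟨fun h3 => (hdisj ω).1 (Subtype.ext h3),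
      fun h3 => (hdisj ω).2 (Subtype.ext h3)⟩, ?_⟩
  · intro g hg ω
    have h1 := hW (fun χ => (χ : G → ℂ) g) 0 (fun m hm => by
      rw [sum_DD, Finset.sum_eq_zero, mul_zero]
      intro l _
      rw [Cfsg.Agent.H593.D1Lower.card_filter_regular h (huP m) (hu1 m hm) l hg, Nat.cast_zero,
        mul_zero]) ω
    linear_combination h1
  · intro m hm
    rw [← hDD c₁, hconst c₁ _ hc₁ m hm]
    push_cast
    ring
  · intro m hm
    rw [← hDD c₂, hconst c₂ _ hc₂ m hm]
    push_cast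
    ring
  · intro ω
    have h1 := hsum (Ψ ω)
    rw [Finset.sum_congr rfl fun (m : (ZMod p)ˣ) _ => hDD (Ψ ω) (u z (m : ZMod p))] at h1
    rw [h1, hsum1]
    ring
  · intro χ hχ g l
    have hχB : χ ∈ B := by
      rcases hχ with h1 | h1 | ⟨ω, h1⟩
      · rw [h1]; exact c₁.2
      · rw [h1]; exact c₂.2
      · rw [h1]; exact (Ψ ω).2
    exact (hmulB ⟨χ, hχB⟩).2 g l
  · rintro χ ⟨m, hm, hm'⟩
    have hχB : χ ∈ B := by
      by_contra hcon
      exact hm' (DD_eq_zero h hM hB hind hcon (huP m) (hu1 m hm))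
    rcases hall ⟨χ, hχB⟩ with h1 | h1 | ⟨ω, h1⟩
    · exact Or.inl (congrArg Subtype.val h1)
    · exact Or.inr (Or.inl (congrArg Subtype.val h1))
    · exact Or.inr (Or.inr ⟨ω, congrArg Subtype.val h1⟩)
  · intro ω
    have h1 := hsq (Ψ ω)
    simp only [hDD] at h1
    have h2 : ∑ i, (a (Ψ ω) i : ℂ) ^ 2 = 1 := by
      have h3 : ∀ i, (a (Ψ ω) i : ℂ) ^ 2 = if i = ω then (1 : ℂ) else 0 := by
        intro i
        rw [hΨ]
        split_ifs
        · rcases hs ω with h | h <;> rw [h] <;> norm_num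
        · simp
      rw [Finset.sum_congr rfl fun i _ => h3 i, Finset.sum_ite_eq' Finset.univ ω,
        if_pos (Finset.mem_univ _)]
    have h3 : (s ω : ℂ) ^ 2 = 1 := by rcases hs ω with h | h <;> rw [h] <;> norm_num
    rw [h2, hsum1] at h1
    rw [h1]
    linear_combination (-4 : ℂ) * h3

end Cfsg.Agent.H656.PM2Block
end

-- part: H656/PM2Count
section
/-!
# The involution inverting `P`, class algebra constants and the dihedral bound
-/

set_option autoImplicit false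
set_option linter.unusedSectionVars false
set_option linter.unusedVariables false

namespace Cfsg.Agent.H656.PM2Count

open Cfsg ZMod
open scoped ComplexConjugate
open Cfsg.Agent.Blocks.Basic
open Cfsg.Agent.Blocks.CyclicGroup
open Cfsg.Agent.H593.D1Local
open Cfsg.Agent.H593.D1Sec
open Cfsg.Agent.H593.D1Gram
open Cfsg.Agent.H593.D1Block
open Cfsg.Agent.H593.D1Block2
open Cfsg.Agent.H656.PM2Centre

variable {G : Type*} [Group G] [Fintype G] {p : ℕ} [hp : Fact p.Prime] {K : Subgroup G}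

/-- The situation: `P = ⟨z⟩`, `C_G(P) = P × L` with `L` central of odd order, `x` an involution
of the complement `K`, inverting `P`, and `|K : L| = 2`. -/
structure Sit (P : Sylow p G) (K : Subgroup G) (z x : G) : Prop where
  loc : Loc p (P : Subgroup G) K
  cen : ∀ l : LL (P : Subgroup G) K, ((l : K) : G) ∈ Subgroup.center G
  idx : (LL (P : Subgroup G) K).index = 2
  odd : Odd (Nat.card (LL (P : Subgroup G) K))
  ord : orderOf z = p
  mem : z ∈ (P : Subgroup G)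
  xK : x ∈ K
  xL : (⟨x, xK⟩ : K) ∉ LL (P : Subgroup G) K
  xx : x * x = 1
  inv : ∀ m : ZMod p, x * u z m * x⁻¹ = u z (-m)
  gt : 5 < p

/-- Existence of the situation in a perfect group. -/
theorem exists_sit (P : Sylow p G) (hP : Nat.card P = p) (h5 : 5 < p)
    (hnn : ¬ (P : Subgroup G).Normal) (hperf : commutator G = ⊤) (ζ : G → ℂ)
    (hζ : IsIrrCharacter G ζ)
    (hfaith : ∀ g : G, ζ g = ζ 1 → g = 1) (hdeg : charDegree ζ = p - 2) :
    ∃ (K : Subgroup G) (z x : G), Sit P K z x := by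
  classical
  obtain ⟨K, h, hc, hi⟩ := local_structure P hP h5 hnn ζ hζ hfaith hdeg
  obtain ⟨z, hzP, hz1, hz⟩ := exists_gen h
  have hpodd : Odd p := hp.out.odd_of_ne_two (by omega)
  have hodd : Odd (Nat.card (LL (P : Subgroup G) K)) := by
    rw [← Nat.not_even_iff_odd, even_iff_two_dvd]
    intro h2
    obtain ⟨l, hl⟩ := exists_prime_orderOf_dvd_card' 2 h2
    have hζ1 : ζ 1 = ((p - 2 : ℕ) : ℂ) := by rw [irr_one_eq_charDegree hζ, hdeg]
    obtain ⟨w, hw, hw'⟩ := Cfsg.Agent.Classification.QDW.CentralEnd.exists_root hζ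
      (hc l) (by rw [hperf]; exact Subgroup.mem_top _) hζ1
    have h3 : w ^ 2 = 1 := by
      have h4 := hw' (1 * ((l : K) : G))
      rw [hw' 1, mul_assoc] at h4
      have h5 : ((l : K) : G) * ((l : K) : G) = 1 := by
        have h6 : l * l = 1 := by rw [← pow_two, ← hl, pow_orderOf_eq_one]
        have h7 := congrArg (fun a : LL (P : Subgroup G) K => ((a : K) : G)) h6
        exact h7
      rw [h5, one_mul] at h4
      have h6 : ζ 1 ≠ 0 := by
        rw [hζ1]
        have : p - 2 ≠ 0 := by omega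
        exact_mod_cast this
      apply mul_right_cancel₀ h6
      rw [pow_two, mul_assoc, ← h4, one_mul]
    have h4 : w = 1 := by
      obtain ⟨r, hr⟩ := hpodd
      have h6 : p - 2 = 2 * (r - 1) + 1 := by omega
      rw [h6, pow_add, pow_mul, h3, one_pow, one_mul, pow_one] at hw
      exact hw
    have h5 := hfaith ((l : K) : G) (by
      have := hw' 1
      rw [h4, one_mul, one_mul] at this
      exact this)
    have h6 : l = 1 := Subtype.ext (Subtype.ext h5)
    rw [h6, orderOf_one] at hl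
    omega
  -- the involution
  obtain ⟨k, hk⟩ : ∃ k : K, k ∉ LL (P : Subgroup G) K := by
    by_contra hcon
    push Not at hcon
    have : LL (P : Subgroup G) K = ⊤ := by
      rw [eq_top_iff]
      exact fun k _ => hcon k
    rw [this, Subgroup.index_top] at hi
    omega
  have hkk : k * k ∈ LL (P : Subgroup G) K := Subgroup.mul_self_mem_of_index_two hi k
  set m := Nat.card (LL (P : Subgroup G) K) with hm
  have hpow : ∀ r : ℕ, k ^ (2 * r + 1) ∉ LL (P : Subgroup G) K := by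
    intro r hr
    apply hk
    have h1 : k ^ (2 * r) ∈ LL (P : Subgroup G) K := by
      rw [pow_mul, pow_two]
      exact Subgroup.pow_mem _ hkk r
    rw [pow_succ] at hr
    exact (Subgroup.mul_mem_cancel_left _ h1).1 hr
  have hx2 : k ^ m * k ^ m = 1 := by
    have h1 : (k * k) ^ m = k ^ m * k ^ m := (Commute.refl k).mul_pow m
    rw [← h1]
    have h2 : (⟨k * k, hkk⟩ : LL (P : Subgroup G) K) ^ m = 1 := by
      rw [hm]; exact pow_card_eq_one'
    exact congrArg Subtype.val h2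
  have hxL : k ^ m ∉ LL (P : Subgroup G) K := by
    obtain ⟨r, hr⟩ := hodd
    rw [hr]
    exact hpow r
  obtain ⟨ψ, hψ⟩ := exists_hom h hz hzP
  have hψx : ((ψ (k ^ m) : (ZMod p)ˣ) : ZMod p) = -1 := by
    have h1 : ψ (k ^ m) * ψ (k ^ m) = 1 := by rw [← map_mul, hx2, map_one]
    have h2 : ψ (k ^ m) ≠ 1 := fun h3 => hxL ((mem_ker h hz hzP hψ _).1 h3)
    have h3 : ((ψ (k ^ m) : (ZMod p)ˣ) : ZMod p) * ((ψ (k ^ m) : (ZMod p)ˣ) : ZMod p) = 1 := by
      rw [← Units.val_mul, h1, Units.val_one]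
    rcases mul_self_eq_one_iff.1 h3 with h4 | h4
    · exact absurd (Units.ext h4) h2
    · exact h4
  refine ⟨K, z, ((k ^ m : K) : G), h, hc, hi, hodd, hz, hzP, (k ^ m : K).2, hxL, ?_, ?_, h5⟩
  · exact congrArg Subtype.val hx2
  · intro i
    rw [hψ, hψx, neg_one_mul]

namespace Sit

variable {P : Sylow p G} {z x : G} (S : Sit P K z x)

include S

theorem two_ne : (2 : ZMod p) ≠ 0 := by
  have h1 : ((2 : ℕ) : ZMod p) ≠ 0 := by
    rw [Ne, ZMod.natCast_eq_zero_iff]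
    intro h2
    have := Nat.le_of_dvd (by norm_num) h2
    have := S.gt
    omega
  exact_mod_cast h1

theorem x_inv : x⁻¹ = x := inv_eq_of_mul_eq_one_left S.xx

theorem x_mul (m : ZMod p) : x * u z m = u z (-m) * x := by
  rw [← S.inv m, mul_assoc, mul_assoc, inv_mul_cancel, mul_one]

theorem hu1 {m : ZMod p} (hm : m ≠ 0) : u z m ≠ 1 := fun h => hm ((u_eq_one_iff S.ord).1 h)

theorem huP (m : ZMod p) : u z m ∈ (P : Subgroup G) := u_mem_P S.loc S.ord S.mem m

theorem u_inv (m : ZMod p) : (u z m)⁻¹ = u z (-m) := by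
  apply inv_eq_of_mul_eq_one_left
  rw [← u_add S.ord, neg_add_cancel, u_zero]

theorem isConj_mul (i : ZMod p) : IsConj x (u z i * x) := by
  rw [isConj_iff]
  refine ⟨u z (i * 2⁻¹), ?_⟩
  rw [S.u_inv, mul_assoc, S.x_mul, ← mul_assoc, ← u_add S.ord, neg_neg, ← mul_two, mul_assoc,
    inv_mul_cancel₀ S.two_ne, mul_one]

theorem exists_u {y : G} (hy : y ∈ (P : Subgroup G)) : ∃ i : ZMod p, u z i = y := by
  have h1 : y ∈ Subgroup.zpowers z := by
    rw [Cfsg.Agent.H593.D1Block.zpowers_eq S.loc S.ord S.mem]; exact hy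
  obtain ⟨i, hi⟩ := exists_u_of_mem S.ord h1
  exact ⟨i, hi⟩

theorem sq_eq_one_of_isConj {q : G} (hq : IsConj x q) : q * q = 1 := by
  obtain ⟨c, hc⟩ := isConj_iff.1 hq
  rw [← hc]
  have h1 : c * x * c⁻¹ * (c * x * c⁻¹) = c * (x * x) * c⁻¹ := by group
  rw [h1, S.xx, mul_one, mul_inv_cancel]

theorem mul_x_mem {k : G} (hk : k ∈ K) (hkL : (⟨k, hk⟩ : K) ∉ LL (P : Subgroup G) K) :
    (⟨k, hk⟩ : K) * ⟨x, S.xK⟩ ∈ LL (P : Subgroup G) K :=
  (Subgroup.mul_mem_iff_of_index_two S.idx).2 (iff_of_false hkL S.xL)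

theorem eq_one_of_sq {l : LL (P : Subgroup G) K} (hl : l * l = 1) : l = 1 := by
  have h1 : orderOf l ∣ 2 := orderOf_dvd_of_pow_eq_one (by rw [pow_two]; exact hl)
  have h2 : orderOf l ∣ Nat.card (LL (P : Subgroup G) K) := orderOf_dvd_natCard l
  rcases (Nat.dvd_prime Nat.prime_two).1 h1 with h3 | h3
  · exact orderOf_eq_one_iff.1 h3
  · rw [h3] at h2
    exact absurd (even_iff_two_dvd.2 h2) (Nat.not_even_iff_odd.2 S.odd)

/-- An involution inverting a nontrivial element of `P`. -/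
theorem eq_of_inv {q : G} (hq : q * q = 1) {m : ZMod p} (hm : m ≠ 0)
    (hinv : q * u z m * q⁻¹ = u z (-m)) : ∃ i : ZMod p, q = u z i * x := by
  have hq' : q⁻¹ = q := inv_eq_of_mul_eq_one_left hq
  have hPm : Subgroup.zpowers (u z m) = (P : Subgroup G) := by
    rw [zpowers_u S.ord hm, Cfsg.Agent.H593.D1Block.zpowers_eq S.loc S.ord S.mem]
  have h1 : ∀ y ∈ (P : Subgroup G), q * y * q⁻¹ ∈ (P : Subgroup G) := by
    intro y hy
    rw [← hPm] at hy
    obtain ⟨j, rfl⟩ := Subgroup.mem_zpowers_iff.1 hy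
    have h2 : q * u z m ^ j * q⁻¹ = (q * u z m * q⁻¹) ^ j := (conj_zpow).symm
    rw [h2, hinv]
    exact zpow_mem (S.huP _) j
  have hN : q ∈ Subgroup.normalizer ((P : Subgroup G) : Set G) := by
    rw [Subgroup.mem_normalizer_iff]
    intro y
    refine ⟨h1 y, fun hy => ?_⟩
    have h2 := h1 _ hy
    have h3 : q * (q * y * q⁻¹) * q⁻¹ = y := by
      rw [hq']
      calc q * (q * y * q) * q = (q * q) * y * (q * q) := by group
        _ = y := by rw [hq, one_mul, mul_one]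
    rwa [h3] at h2
  obtain ⟨k, hk, y, hy, hky⟩ := S.loc.mul q hN
  obtain ⟨j, rfl⟩ := S.exists_u hy
  have hkL : (⟨k, hk⟩ : K) ∉ LL (P : Subgroup G) K := by
    intro h2
    have h3 : k * u z m * k⁻¹ = u z m := by
      have := (S.loc.comm (S.huP m) (mem_LL.1 h2)).eq
      rw [← this, mul_assoc, mul_inv_cancel, mul_one]
    rw [hky] at hinv
    have h4 : k * u z j * u z m * (k * u z j)⁻¹ = k * (u z j * u z m * (u z j)⁻¹) * k⁻¹ := by
      group
    have h5 : u z j * u z m * (u z j)⁻¹ = u z m := by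
      rw [← u_add S.ord, add_comm, u_add S.ord, mul_assoc, mul_inv_cancel, mul_one]
    rw [h4, h5, h3] at hinv
    have h6 := u_injective S.ord hinv
    have h7 : (2 : ZMod p) * m = 0 := by
      rw [two_mul]
      nth_rewrite 1 [h6]
      ring
    rcases mul_eq_zero.1 h7 with h8 | h8
    · exact S.two_ne h8
    · exact hm h8
  have hl := S.mul_x_mem hk hkL
  have hcen := Subgroup.mem_center_iff.1 (S.cen ⟨_, hl⟩)
  have hkl : k = k * x * x := by rw [mul_assoc, S.xx, mul_one]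
  have hl2 : (⟨_, hl⟩ : LL (P : Subgroup G) K) * ⟨_, hl⟩ = 1 := by
    apply Subtype.ext
    apply Subtype.ext
    show k * x * (k * x) = 1
    have h2 : ∀ g : G, g * (k * x) = k * x * g := hcen
    have h3 : q * q = (k * x) * (k * x) := by
      rw [hky]
      calc k * u z j * (k * u z j) = k * x * (x * u z j) * (k * x * (x * u z j)) := by
            rw [← mul_assoc (k * x) x, mul_assoc k x x, S.xx, mul_one]
        _ = k * x * ((x * u z j) * (k * x)) * (x * u z j) := by group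
        _ = k * x * (k * x) * (x * u z j * (x * u z j)) := by rw [h2]; group
        _ = k * x * (k * x) := by
            have h4 : x * u z j * (x * u z j) = 1 := by
              rw [S.x_mul j]
              have h5 : u z (-j) * x * (u z (-j) * x) = u z (-j) * (x * u z (-j)) * x := by group
              rw [h5, S.x_mul (-j), neg_neg, ← mul_assoc, ← u_add S.ord, neg_add_cancel, u_zero,
                one_mul, S.xx]
            rw [h4, mul_one]
    rw [← h3, hq]
  have hl1 := S.eq_one_of_sq hl2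
  have hkx : k * x = 1 := congrArg (fun a : LL (P : Subgroup G) K => ((a : K) : G)) hl1
  have hk' : k = x := by rw [hkl, hkx, one_mul]
  refine ⟨-j, ?_⟩
  rw [hky, hk', S.x_mul]

theorem inv_of_mul {q r : G} (hq : q * q = 1) (hr : r * r = 1) {y : G} (hy : q * r = y) :
    q * y * q⁻¹ = y⁻¹ := by
  have hq' : q⁻¹ = q := inv_eq_of_mul_eq_one_left hq
  have hr' : r⁻¹ = r := inv_eq_of_mul_eq_one_left hr
  rw [← hy, mul_inv_rev, hq', hr', ← mul_assoc q q r, hq, one_mul]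

theorem count_one {m : ZMod p} (hm : m ≠ 0) :
    Nat.card {q : G × G // IsConj x q.1 ∧ IsConj x q.2 ∧ q.1 * q.2 = u z m} = p := by
  have hconj : ∀ i : ZMod p, IsConj x (u z i * x) := S.isConj_mul
  let f : ZMod p → {q : G × G // IsConj x q.1 ∧ IsConj x q.2 ∧ q.1 * q.2 = u z m} := fun i =>
    ⟨(u z i * x, u z (i - m) * x), hconj i, hconj _, by
      show u z i * x * (u z (i - m) * x) = u z m
      have h1 : u z i * x * (u z (i - m) * x) = u z i * (x * u z (i - m)) * x := by group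
      rw [h1, S.x_mul, ← mul_assoc, ← u_add S.ord, mul_assoc, S.xx, mul_one]
      congr 1
      ring⟩
  have hf : Function.Bijective f := by
    constructor
    · intro i j hij
      have h1 : u z i * x = u z j * x := congrArg (fun q => (q.1).1) hij
      exact u_injective S.ord (mul_right_cancel h1)
    · rintro ⟨⟨q, r⟩, hq, hr, hqr⟩
      have hq2 := S.sq_eq_one_of_isConj hq
      have hr2 := S.sq_eq_one_of_isConj hr
      change q * q = 1 at hq2
      change r * r = 1 at hr2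
      change q * r = u z m at hqr
      have h1 := S.inv_of_mul hq2 hr2 hqr
      rw [S.u_inv] at h1
      obtain ⟨i, hi⟩ := S.eq_of_inv hq2 hm h1
      refine ⟨i, Subtype.ext (Prod.ext hi.symm ?_)⟩
      show u z (i - m) * x = r
      have h2 : r = q⁻¹ * u z m := by rw [← hqr]; group
      have h3 : q⁻¹ = q := inv_eq_of_mul_eq_one_left hq2
      rw [h2, h3, hi, mul_assoc, S.x_mul, ← mul_assoc, ← u_add S.ord, sub_eq_add_neg]
  rw [← Nat.card_congr (Equiv.ofBijective f hf), Nat.card_eq_fintype_card, ZMod.card]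

theorem count_ne {m : ZMod p} (hm : m ≠ 0) {l : LL (P : Subgroup G) K} (hl : l ≠ 1) :
    Nat.card {q : G × G // IsConj x q.1 ∧ IsConj x q.2 ∧
      q.1 * q.2 = u z m * ((l : K) : G)} = 0 := by
  rw [Nat.card_eq_zero]
  left
  constructor
  rintro ⟨⟨q, r⟩, hq, hr, hqr⟩
  have hq2 := S.sq_eq_one_of_isConj hq
  have hr2 := S.sq_eq_one_of_isConj hr
  change q * q = 1 at hq2
  change r * r = 1 at hr2
  change q * r = _ at hqr
  have h1 := S.inv_of_mul hq2 hr2 hqr
  have hcen : ∀ g : G, g * ((l : K) : G) = ((l : K) : G) * g := Subgroup.mem_center_iff.1 (S.cen l)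
  have h2 : (q * u z m * q⁻¹) * (((l : K) : G) * ((l : K) : G)) = u z (-m) := by
    have h3 : q * (u z m * ((l : K) : G)) * q⁻¹ = (q * u z m * q⁻¹) * ((l : K) : G) := by
      calc q * (u z m * ((l : K) : G)) * q⁻¹ = (q * u z m) * (((l : K) : G) * q⁻¹) := by group
        _ = (q * u z m) * (q⁻¹ * ((l : K) : G)) := by rw [← hcen]
        _ = _ := by group
    rw [h3, mul_inv_rev, S.u_inv] at h1
    calc q * u z m * q⁻¹ * (((l : K) : G) * ((l : K) : G)) =
        (q * u z m * q⁻¹ * ((l : K) : G)) * ((l : K) : G) := by group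
      _ = ((l : K) : G)⁻¹ * (u z (-m) * ((l : K) : G)) := by rw [h1]; group
      _ = u z (-m) := by rw [hcen, ← mul_assoc, inv_mul_cancel, one_mul]
  have hup : ∀ i : ZMod p, (u z i) ^ p = 1 := by
    intro i
    rw [u_eq, ← pow_mul, mul_comm, pow_mul]
    have : z ^ p = 1 := by rw [← S.ord, pow_orderOf_eq_one]
    rw [this, one_pow]
  have h4 : (((l : K) : G) * ((l : K) : G)) ^ p = 1 := by
    have hc2 : Commute (q * u z m * q⁻¹) (((l : K) : G) * ((l : K) : G)) := by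
      apply Commute.mul_right
      · exact hcen _
      · exact hcen _
    have h5 : (q * u z m * q⁻¹ * (((l : K) : G) * ((l : K) : G))) ^ p = (u z (-m)) ^ p := by
      rw [h2]
    rw [hc2.mul_pow, hup, conj_pow, hup, mul_one, mul_inv_cancel, one_mul] at h5
    exact h5
  have h5 : l ^ (2 * p) = 1 := by
    apply Subtype.ext
    apply Subtype.ext
    rw [pow_mul, pow_two]
    exact h4
  have h6 : orderOf l ∣ 2 * p := orderOf_dvd_of_pow_eq_one h5
  have h7 : orderOf l ∣ Nat.card (LL (P : Subgroup G) K) := orderOf_dvd_natCard l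
  have h8 : (Nat.card (LL (P : Subgroup G) K)).Coprime (2 * p) := by
    apply Nat.Coprime.mul_right
    · exact (Nat.coprime_two_right).2 S.odd
    · rw [Nat.coprime_comm, hp.out.coprime_iff_not_dvd]
      intro h9
      exact S.loc.cop (h9.trans (Subgroup.card_subgroup_dvd_card _))
  exact hl (orderOf_eq_one_iff.1 (Nat.eq_one_of_dvd_coprimes h8 h7 h6))

/-- The class algebra sum over the characters above `θ`. -/
theorem weight [Fintype (LL (P : Subgroup G) K)] [Fintype (IrrCharacter G)]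
    (θ : LL (P : Subgroup G) K → ℂ) (hθ : θ 1 = 1) {m : ZMod p} (hm : m ≠ 0) :
    ∑ χ : IrrCharacter G, ((χ : G → ℂ) x * (χ : G → ℂ) x / (χ : G → ℂ) 1) *
      conj (DD θ (χ : G → ℂ) (u z m)) =
    (Nat.card (Subgroup.centralizer ({x} : Set G)) : ℂ) ^ 2 * p /
      ((Nat.card G : ℂ) * Nat.card (LL (P : Subgroup G) K)) := by
  classical
  have hG : (Nat.card G : ℂ) ≠ 0 := by exact_mod_cast Nat.card_pos.ne'
  have hL : (Nat.card (LL (P : Subgroup G) K) : ℂ) ≠ 0 := by exact_mod_cast Nat.card_pos.ne'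
  have h1 : ∀ χ : IrrCharacter G, ((χ : G → ℂ) x * (χ : G → ℂ) x / (χ : G → ℂ) 1) *
      conj (DD θ (χ : G → ℂ) (u z m)) = (Nat.card (LL (P : Subgroup G) K) : ℂ)⁻¹ *
        ∑ l : LL (P : Subgroup G) K, θ l * ((χ : G → ℂ) x * (χ : G → ℂ) x *
          conj ((χ : G → ℂ) (u z m * ((l : K) : G))) / (χ : G → ℂ) 1) := by
    intro χ
    rw [DD_def, map_mul, map_sum, map_inv₀, map_natCast, Finset.mul_sum, Finset.mul_sum,
      Finset.mul_sum]
    refine Finset.sum_congr rfl fun l _ => ?_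
    rw [map_mul, Complex.conj_conj]
    ring
  rw [Finset.sum_congr rfl fun χ _ => h1 χ, ← Finset.mul_sum, Finset.sum_comm]
  have h2 : ∀ l : LL (P : Subgroup G) K, ∑ χ : IrrCharacter G, θ l * ((χ : G → ℂ) x *
      (χ : G → ℂ) x * conj ((χ : G → ℂ) (u z m * ((l : K) : G))) / (χ : G → ℂ) 1) =
      if l = 1 then (Nat.card (Subgroup.centralizer ({x} : Set G)) : ℂ) ^ 2 * p / Nat.card G
      else 0 := by
    intro l
    have h3 := Cfsg.Agent.Characters.ClassMul.card_conj_mul_conj x x (u z m * ((l : K) : G))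
    rw [Cfsg.Agent.Characters.ClassMul.card_conj_mul_conj_eq] at h3
    rw [← Finset.mul_sum]
    have h4 : ∑ χ : IrrCharacter G, (χ : G → ℂ) x *
      (χ : G → ℂ) x * conj ((χ : G → ℂ) (u z m * ((l : K) : G))) / (χ : G → ℂ) 1 =
        (Nat.card (Subgroup.centralizer ({x} : Set G)) : ℂ) ^ 2 *
          Nat.card {q : G × G // IsConj x q.1 ∧ IsConj x q.2 ∧
            q.1 * q.2 = u z m * ((l : K) : G)} / Nat.card G := by
      rw [eq_div_iff hG, mul_comm, ← h3]
      push_cast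
      ring
    rw [h4]
    split_ifs with hl
    · subst hl
      rw [hθ, one_mul]
      have h5 : u z m * ((((1 : LL (P : Subgroup G) K) : K)) : G) = u z m := by
        simp
      rw [h5, S.count_one hm]
    · rw [S.count_ne hm hl, Nat.cast_zero, mul_zero, zero_div, mul_zero]
  rw [Finset.sum_congr rfl fun l _ => h2 l, Finset.sum_ite_eq' Finset.univ (1 : LL (P : Subgroup G) K),
    if_pos (Finset.mem_univ _)]
  field_simp

/-- The homomorphism from the dihedral group. -/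
def dih : DihedralGroup p →* G where
  toFun d := match d with
    | DihedralGroup.r i => u z i
    | DihedralGroup.sr i => x * u z i
  map_one' := by
    rw [DihedralGroup.one_def]
    exact u_zero
  map_mul' := by
    rintro (i | i) (j | j)
    · rw [DihedralGroup.r_mul_r]
      exact u_add S.ord i j
    · rw [DihedralGroup.r_mul_sr]
      show x * u z (j - i) = u z i * (x * u z j)
      rw [sub_eq_add_neg, add_comm, u_add S.ord, ← mul_assoc, S.x_mul, neg_neg, mul_assoc]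
    · rw [DihedralGroup.sr_mul_r]
      show x * u z (i + j) = x * u z i * u z j
      rw [u_add S.ord, mul_assoc]
    · rw [DihedralGroup.sr_mul_sr]
      show u z (j - i) = x * u z i * (x * u z j)
      have h1 : x * u z i * (x * u z j) = (x * u z i) * x * u z j := by group
      rw [h1, S.x_mul, mul_assoc (u z (-i)) x x, S.xx, mul_one, ← u_add S.ord]
      congr 1
      ring

theorem isConj_mul' (i : ZMod p) : IsConj x (x * u z i) := by
  rw [S.x_mul]
  exact S.isConj_mul _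

/-- **The dihedral bound.** -/
theorem bound {χ : G → ℂ} (hχ : IsCharacter G χ) :
    ∃ a b : ℕ, ∑ m : ZMod p, χ (u z m) = p * (a + b) ∧ χ x = (a : ℂ) - b := by
  classical
  have hp0 : (p : ℂ) ≠ 0 := Nat.cast_ne_zero.2 hp.out.ne_zero
  have hcl : ∀ i : ZMod p, χ (x * u z i) = χ x := by
    intro i
    obtain ⟨c, hc⟩ := isConj_iff.1 (S.isConj_mul' i)
    rw [← hc]
    obtain ⟨n, ρ, rfl⟩ := hχ
    exact Representation.char_conj ρ _ _
  have hsplit : ∀ F : DihedralGroup p → ℂ, ∑ d, F d =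
      ∑ i : ZMod p, F (DihedralGroup.r i) + ∑ i : ZMod p, F (DihedralGroup.sr i) := by
    intro F
    rw [← Equiv.sum_comp (DihedralGroup.equivSum (n := p)).symm F, Fintype.sum_sum_type]
    rfl
  let sgn : DihedralGroup p →* ℂˣ :=
    { toFun := fun d => match d with
        | DihedralGroup.r _ => 1
        | DihedralGroup.sr _ => -1
      map_one' := rfl
      map_mul' := by
        rintro (i | i) (j | j)
        · rw [DihedralGroup.r_mul_r]; exact (one_mul _).symm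
        · rw [DihedralGroup.r_mul_sr]; exact (one_mul _).symm
        · rw [DihedralGroup.sr_mul_r]; exact (mul_one _).symm
        · rw [DihedralGroup.sr_mul_sr]; simp }
  have hres : IsCharacter (DihedralGroup p) (χ ∘ S.dih) :=
    Cfsg.Agent.Characters.Core.isCharacter_comp S.dih hχ
  obtain ⟨a, ha⟩ := Cfsg.Agent.Characters.Core.classInner_isNat hres
    (Cfsg.Agent.Characters.Linear.isCharacter_hom (1 : DihedralGroup p →* ℂˣ))
  obtain ⟨b, hb⟩ := Cfsg.Agent.Characters.Core.classInner_isNat hres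
    (Cfsg.Agent.Characters.Linear.isCharacter_hom sgn)
  have hcard : (Nat.card (DihedralGroup p) : ℂ) = 2 * p := by
    rw [DihedralGroup.nat_card]; push_cast; rfl
  rw [Cfsg.Agent.Characters.Core.classInner_def, hsplit, hcard] at ha hb
  have h1 : ∑ i : ZMod p, (χ ∘ S.dih) (DihedralGroup.r i) *
      conj (((1 : DihedralGroup p →* ℂˣ) (DihedralGroup.r i) : ℂˣ) : ℂ) =
      ∑ m : ZMod p, χ (u z m) := by
    refine Finset.sum_congr rfl fun i _ => ?_
    show χ (u z i) * conj ((1 : ℂˣ) : ℂ) = _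
    simp
  have h2 : ∑ i : ZMod p, (χ ∘ S.dih) (DihedralGroup.sr i) *
      conj (((1 : DihedralGroup p →* ℂˣ) (DihedralGroup.sr i) : ℂˣ) : ℂ) = p * χ x := by
    have h3 : ∀ i : ZMod p, (χ ∘ S.dih) (DihedralGroup.sr i) *
      conj (((1 : DihedralGroup p →* ℂˣ) (DihedralGroup.sr i) : ℂˣ) : ℂ) = χ x := by
      intro i
      show χ (x * u z i) * conj ((1 : ℂˣ) : ℂ) = _
      rw [hcl]
      simp
    rw [Finset.sum_congr rfl fun i _ => h3 i, Finset.sum_const, Finset.card_univ, ZMod.card,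
      nsmul_eq_mul]
  have h3 : ∑ i : ZMod p, (χ ∘ S.dih) (DihedralGroup.r i) *
      conj ((sgn (DihedralGroup.r i) : ℂˣ) : ℂ) = ∑ m : ZMod p, χ (u z m) := by
    refine Finset.sum_congr rfl fun i _ => ?_
    show χ (u z i) * conj ((1 : ℂˣ) : ℂ) = _
    simp
  have h4 : ∑ i : ZMod p, (χ ∘ S.dih) (DihedralGroup.sr i) *
      conj ((sgn (DihedralGroup.sr i) : ℂˣ) : ℂ) = -(p * χ x) := by
    have h3 : ∀ i : ZMod p, (χ ∘ S.dih) (DihedralGroup.sr i) *
      conj ((sgn (DihedralGroup.sr i) : ℂˣ) : ℂ) = -χ x := by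
      intro i
      show χ (x * u z i) * conj ((-1 : ℂˣ) : ℂ) = _
      rw [hcl]
      simp
    rw [Finset.sum_congr rfl fun i _ => h3 i, Finset.sum_const, Finset.card_univ, ZMod.card,
      nsmul_eq_mul]
    ring
  rw [h1, h2] at ha
  rw [h3, h4] at hb
  refine ⟨a, b, ?_, ?_⟩
  · rw [← ha, ← hb]
    field_simp
    ring
  · rw [← ha, ← hb]
    field_simp
    ring

end Sit

end Cfsg.Agent.H656.PM2Count
end

-- part: H656/PM2Eq
section
/-!
# The two equations

The class algebra constant of the involution `x` at the elements of `P`, computed in the block of the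
character `ζ` of degree `p - 2` and in the principal block.
-/

set_option autoImplicit false
set_option linter.unusedSectionVars false
set_option linter.unusedVariables false

namespace Cfsg.Agent.H656.PM2Eq

open Cfsg ZMod
open scoped ComplexConjugate
open Cfsg.Agent.Blocks.Basic
open Cfsg.Agent.Blocks.CyclicGroup
open Cfsg.Agent.H593.D1Local
open Cfsg.Agent.H593.D1Sec
open Cfsg.Agent.H656.PM2Centre
open Cfsg.Agent.H656.PM2Count
open Cfsg.Agent.H656.PM2Block
open Cfsg.Agent.Characters.Core (isIrr_isCharacter finite_irr isIrr_apply_one)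

variable {G : Type*} [Group G] [Fintype G] {p : ℕ} [hp : Fact p.Prime] {K : Subgroup G}
  {P : Sylow p G} {z x : G} (S : Sit P K z x)

include S

theorem sum_units (χ : G → ℂ) : ∑ m : (ZMod p)ˣ, χ (u z (m : ZMod p)) =
    ∑ m : ZMod p, χ (u z m) - χ 1 := by
  have h1 := Cfsg.Agent.H593.D1Abs.sum_units_eq (fun m : ZMod p => χ (u z m))
  rw [u_zero] at h1
  exact h1

theorem sum_const {χ : G → ℂ} {a : ℂ} (h : ∀ m : ZMod p, m ≠ 0 → χ (u z m) = a) :
    ∑ m : ZMod p, χ (u z m) = χ 1 + (p - 1) * a := by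
  have h1 := sum_units S χ
  rw [Finset.sum_congr rfl fun (m : (ZMod p)ˣ) _ => h (m : ZMod p) (Units.ne_zero m),
    Finset.sum_const, Finset.card_univ, ZMod.card_units, nsmul_eq_mul,
    Nat.cast_sub hp.out.one_lt.le] at h1
  push_cast at h1
  linear_combination -h1

theorem x_regular : ¬ p ∣ orderOf x := by
  have h1 : orderOf x ∣ 2 := orderOf_dvd_of_pow_eq_one (by rw [pow_two]; exact S.xx)
  intro h2
  have h3 := Nat.le_of_dvd (by norm_num) (h2.trans h1)
  have := S.gt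
  omega

theorem one_regular : ¬ p ∣ orderOf (1 : G) := by
  rw [orderOf_one]
  exact hp.out.not_dvd_one

omit S in
theorem ne_two_three (h : 5 < p) : (p : ℂ) - 2 ≠ 0 := by
  have h1 : ((p - 2 : ℕ) : ℂ) ≠ 0 := by
    have : p - 2 ≠ 0 := by omega
    exact_mod_cast this
  rwa [Nat.cast_sub (by omega)] at h1

/-- **The block of `ζ`.** -/
theorem zeta_block [Fintype (LL (P : Subgroup G) K)] {ζ : G → ℂ} (hζ : IsIrrCharacter G ζ)
    (hdeg : charDegree ζ = p - 2) :
    ∃ (θ : IrrCharacter (LL (P : Subgroup G) K)) (χ₁ χ₂ : IrrCharacter G) (k : ℕ) (r δ : ℤ),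
      (∀ (g : G) (l : LL (P : Subgroup G) K), ζ (g * ((l : K) : G)) =
        ζ g * (θ : LL (P : Subgroup G) K → ℂ) l) ∧
      (∀ (g : G) (l : LL (P : Subgroup G) K), (χ₁ : G → ℂ) (g * ((l : K) : G)) =
        (χ₁ : G → ℂ) g * (θ : LL (P : Subgroup G) K → ℂ) l) ∧
      (δ = 1 ∨ δ = -1) ∧ ζ x = δ ∧ (χ₁ : G → ℂ) 1 = k * p + 1 ∧
      (χ₂ : G → ℂ) 1 = (k + 1) * p - 1 ∧ (χ₁ : G → ℂ) x = r ∧ |r + δ| ≤ k ∧
      (∀ m : ZMod p, m ≠ 0 → (χ₂ : G → ℂ) (u z m) = -1) ∧
      (∀ g : G, ¬ p ∣ orderOf g → (χ₂ : G → ℂ) g = (χ₁ : G → ℂ) g + ζ g) ∧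
      (∑ m : (ZMod p)ˣ, ζ (u z (m : ZMod p)) * conj (ζ (u z (m : ZMod p))) = 2 * p - 4) ∧
      ((r : ℂ) ^ 2 / (k * p + 1) - ((r : ℂ) + δ) ^ 2 / ((k + 1) * p - 1) + 1 / (p - 2) =
        (Nat.card (Subgroup.centralizer ({x} : Set G)) : ℂ) ^ 2 * p /
      ((Nat.card G : ℂ) * Nat.card (LL (P : Subgroup G) K))) := by
  classical
  have := finite_irr (G := G)
  have := Fintype.ofFinite (IrrCharacter G)
  have hp5 := S.gt
  have hp0 : (p : ℂ) ≠ 0 := Nat.cast_ne_zero.2 hp.out.ne_zero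
  have hζ1 : ζ 1 = (p : ℂ) - 2 := by
    rw [irr_one_eq_charDegree hζ, hdeg, Nat.cast_sub (by omega)]
    push_cast
    rfl
  -- the central character
  obtain ⟨c, hc, -⟩ := Cfsg.Agent.CharactersDeep.Extraspecial.exists_central_hom hζ
  let j : LL (P : Subgroup G) K →* Subgroup.center G :=
    { toFun := fun l => ⟨((l : K) : G), S.cen l⟩
      map_one' := rfl
      map_mul' := fun _ _ => rfl }
  let θ : IrrCharacter (LL (P : Subgroup G) K) :=
    ⟨fun l => ((c.comp j) l : ℂ), Cfsg.Agent.Characters.Linear.isIrrCharacter_hom (c.comp j)⟩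
  have hθ : ∀ (g : G) (l : LL (P : Subgroup G) K), ζ (g * ((l : K) : G)) =
      ζ g * (θ : LL (P : Subgroup G) K → ℂ) l := fun g l => hc g (j l)
  have hθ1 : (θ : LL (P : Subgroup G) K → ℂ) 1 = 1 := by
    show (((c.comp j) 1 : ℂˣ) : ℂ) = 1
    rw [map_one, Units.val_one]
  obtain ⟨A, B, hAB, hABx⟩ := S.bound (isIrr_isCharacter hζ)
  obtain ⟨m₀, hm₀, hne⟩ : ∃ m : ZMod p, m ≠ 0 ∧ ζ (u z m) ≠ 0 := by
    by_contra hcon
    push Not at hcon
    have h1 := sum_const S (χ := ζ) (a := 0) hcon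
    rw [hAB, hζ1, mul_zero, add_zero] at h1
    have h2 : (p : ℤ) * (A + B) = p - 2 := by exact_mod_cast h1
    have h3 : (p : ℤ) ∣ 2 := ⟨1 - (A + B), by linarith⟩
    have h4 : p ∣ 2 := by exact_mod_cast h3
    have := Nat.le_of_dvd (by norm_num) h4
    omega
  obtain ⟨χ₁, χ₂, a₁, a₂, Ω, hΩ, Ψ, ε, h12, ha₁, ha₂, hε, hcardΩ, hW, hreg, hv₁, hv₂, hsumΨ, hmul,
    hall, hinj, hdisj, hsq⟩ := PM2Block.main P S.loc S.cen S.idx (by omega) S.ord S.mem θ ⟨ζ, hζ⟩
      (by
        show ¬ p ∣ charDegree ζ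
        rw [hdeg]
        intro h1
        have := Nat.le_of_dvd (by omega) h1
        omega) hm₀ (by
        rw [DD_of_mul θ ζ hθ]
        exact hne)
  -- `ζ` is exceptional
  have hζcase := hall ⟨ζ, hζ⟩ ⟨m₀, hm₀, by
    show DD _ ζ _ ≠ 0
    rw [DD_of_mul θ ζ hθ]; exact hne⟩
  have hconst : ∀ a : ℤ, (a = 1 ∨ a = -1) → ¬ ∀ m : ZMod p, m ≠ 0 → ζ (u z m) = a := by
    intro a ha hcon
    have h1 := sum_const S (χ := ζ) (a := a) hcon
    rw [hAB, hζ1] at h1
    have h2 : (p : ℤ) * (A + B) = (p - 2) + (p - 1) * a := by exact_mod_cast h1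
    rcases ha with rfl | rfl
    · have h3 : (p : ℤ) ∣ 3 := ⟨2 - (A + B), by linarith⟩
      have h4 : p ∣ 3 := by exact_mod_cast h3
      have := Nat.le_of_dvd (by norm_num) h4
      omega
    · have h3 : (p : ℤ) ∣ 1 := ⟨-(A + B), by linarith⟩
      have h4 : p ∣ 1 := by exact_mod_cast h3
      have := Nat.le_of_dvd (by norm_num) h4
      omega
  obtain ⟨ω, hω⟩ : ∃ ω, (⟨ζ, hζ⟩ : IrrCharacter G) = Ψ ω := by
    rcases hζcase with h1 | h1 | h1
    · exfalso
      apply hconst a₁ ha₁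
      intro m hm
      have := hv₁ m hm
      rw [← h1] at this
      exact this
    · exfalso
      apply hconst a₂ ha₂
      intro m hm
      have := hv₂ m hm
      rw [← h1] at this
      exact this
    · exact h1
  have hζΨ : ∀ g, (Ψ ω : G → ℂ) g = ζ g := fun g => by rw [← hω]
  have hεω : ε ω = -1 ∧ (A : ℤ) + B = 1 := by
    have h1 := hsumΨ ω
    simp only [hζΨ] at h1
    rw [sum_units S ζ, hAB, hζ1] at h1
    have h2 : (p : ℤ) * (A + B) - (p - 2) = -2 * ε ω := by exact_mod_cast h1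
    rcases hε ω with h | h
    · exfalso
      rw [h] at h2
      have h3 : (p : ℤ) ∣ 4 := ⟨1 - (A + B), by linarith⟩
      have h4 : p ∣ 4 := by exact_mod_cast h3
      have := Nat.le_of_dvd (by norm_num) h4
      omega
    · refine ⟨h, ?_⟩
      rw [h] at h2
      have hpZ : (p : ℤ) ≠ 0 := by exact_mod_cast hp.out.ne_zero
      apply mul_left_cancel₀ hpZ
      linarith
  obtain ⟨hεω, hAB1⟩ := hεω
  -- the values of the two characters
  obtain ⟨A₁, B₁, hAB₁, hx₁⟩ := S.bound (isIrr_isCharacter χ₁.2)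
  obtain ⟨A₂, B₂, hAB₂, hx₂⟩ := S.bound (isIrr_isCharacter χ₂.2)
  rw [sum_const S hv₁] at hAB₁
  rw [sum_const S hv₂] at hAB₂
  obtain ⟨d₁, hd₁, hd₁1⟩ := isIrr_apply_one χ₁.2
  obtain ⟨d₂, hd₂, hd₂1⟩ := isIrr_apply_one χ₂.2
  rw [hd₁1] at hAB₁
  rw [hd₂1] at hAB₂
  have e₁ : (d₁ : ℤ) + (p - 1) * a₁ = p * (A₁ + B₁) := by exact_mod_cast hAB₁
  have e₂ : (d₂ : ℤ) + (p - 1) * a₂ = p * (A₂ + B₂) := by exact_mod_cast hAB₂
  have hreg' : ∀ g : G, ¬ p ∣ orderOf g →
      a₁ * (χ₁ : G → ℂ) g + a₂ * (χ₂ : G → ℂ) g = -ζ g := by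
    intro g hg
    have h1 := hreg g hg ω
    rw [hζΨ, hεω] at h1
    rw [h1]
    push_cast
    ring
  have e₃ : a₁ * (d₁ : ℤ) + a₂ * d₂ = -(p - 2) := by
    have h1 := hreg' 1 (one_regular S)
    rw [hd₁1, hd₂1, hζ1] at h1
    exact_mod_cast h1
  have hpZ : (5 : ℤ) < p := by exact_mod_cast hp5
  have hd₁Z : (0 : ℤ) < d₁ := by exact_mod_cast hd₁
  have hd₂Z : (0 : ℤ) < d₂ := by exact_mod_cast hd₂
  have hWS := hW (fun χ => (χ : G → ℂ) x * (χ : G → ℂ) x / (χ : G → ℂ) 1) _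
    (fun m hm => S.weight (θ : LL (P : Subgroup G) K → ℂ) hθ1 hm) ω
  rw [hεω] at hWS
  have hxreg := hreg' x (x_regular S)
  have hsqζ := hsq ω
  simp only [hζΨ] at hWS hsqζ
  rw [hζ1, hABx] at hWS
  rw [hABx] at hxreg
  have hδ : ((A : ℤ) - B = 1 ∨ (A : ℤ) - B = -1) := by omega
  have hδ2 : ((A : ℂ) - B) * ((A : ℂ) - B) = 1 := by
    have : ((A : ℤ) - B) * ((A : ℤ) - B) = 1 := by rcases hδ with h | h <;> rw [h] <;> norm_num
    exact_mod_cast this
  have hp2 := ne_two_three hp5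
  rcases ha₁ with h1 | h1 <;> rcases ha₂ with h2 | h2
  · exfalso
    rw [h1, h2] at e₃
    linarith
  · -- `a₁ = 1`, `a₂ = -1`
    rw [h1] at e₁ e₃ hWS hxreg
    rw [h2] at e₂ e₃ hWS hxreg
    have hk1 : 1 ≤ A₁ + B₁ := by
      by_contra hcon
      have h3 : A₁ + B₁ = 0 := by omega
      have h4 : (A₁ : ℤ) + B₁ = 0 := by exact_mod_cast h3
      rw [h4] at e₁
      nlinarith
    obtain ⟨k, hk⟩ := Nat.exists_eq_add_of_le hk1
    have hkZ : (A₁ : ℤ) + B₁ = 1 + k := by exact_mod_cast hk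
    have hd₁' : (d₁ : ℤ) = k * p + 1 := by rw [hkZ] at e₁; linarith
    have hd₂' : (d₂ : ℤ) = (k + 1) * p - 1 := by linarith
    have hk₂ : (A₂ : ℤ) + B₂ = k := by
      have hpZ' : (p : ℤ) ≠ 0 := by omega
      apply mul_left_cancel₀ hpZ'
      rw [← e₂, hd₂']
      ring
    have hx₂' : (A₂ : ℤ) - B₂ = (A₁ - B₁) + (A - B) := by
      rw [hx₁, hx₂] at hxreg
      have : (1 : ℤ) * (A₁ - B₁) + -1 * (A₂ - B₂) = -(A - B) := by exact_mod_cast hxreg
      linarith
    refine ⟨θ, χ₁, χ₂, k, (A₁ : ℤ) - B₁, (A : ℤ) - B, hθ, hmul χ₁ (Or.inl rfl), hδ, ?_, ?_, ?_, ?_,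
      ?_, ?_, ?_, hsqζ, ?_⟩
    · rw [hABx]; push_cast; ring
    · rw [hd₁1]; exact_mod_cast hd₁'
    · rw [hd₂1]; exact_mod_cast hd₂'
    · rw [hx₁]; push_cast; ring
    · rw [← hx₂', abs_le]
      constructor <;> linarith [Int.natCast_nonneg A₂, Int.natCast_nonneg B₂]
    · intro m hm
      rw [hv₂ m hm, h2]
      push_cast
      ring
    · intro g hg
      have h3 := hreg' g hg
      rw [h1, h2] at h3
      push_cast at h3
      linear_combination -h3
    · rw [← hWS, hx₁, hx₂, hd₁1, hd₂1]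
      have h3 : (d₁ : ℂ) = k * p + 1 := by exact_mod_cast hd₁'
      have h4 : (d₂ : ℂ) = (k + 1) * p - 1 := by exact_mod_cast hd₂'
      have h5 : (A₂ : ℂ) - B₂ = (A₁ - B₁) + (A - B) := by exact_mod_cast hx₂'
      rw [h3, h4, h5, hδ2]
      push_cast
      ring
  · -- `a₁ = -1`, `a₂ = 1`
    rw [h1] at e₁ e₃ hWS hxreg
    rw [h2] at e₂ e₃ hWS hxreg
    have hk1 : 1 ≤ A₂ + B₂ := by
      by_contra hcon
      have h3 : A₂ + B₂ = 0 := by omega
      have h4 : (A₂ : ℤ) + B₂ = 0 := by exact_mod_cast h3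
      rw [h4] at e₂
      nlinarith
    obtain ⟨k, hk⟩ := Nat.exists_eq_add_of_le hk1
    have hkZ : (A₂ : ℤ) + B₂ = 1 + k := by exact_mod_cast hk
    have hd₁' : (d₂ : ℤ) = k * p + 1 := by rw [hkZ] at e₂; linarith
    have hd₂' : (d₁ : ℤ) = (k + 1) * p - 1 := by linarith
    have hk₂ : (A₁ : ℤ) + B₁ = k := by
      have hpZ' : (p : ℤ) ≠ 0 := by omega
      apply mul_left_cancel₀ hpZ'
      rw [← e₁, hd₂']
      ring
    have hx₂' : (A₁ : ℤ) - B₁ = (A₂ - B₂) + (A - B) := by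
      rw [hx₁, hx₂] at hxreg
      have : (-1 : ℤ) * (A₁ - B₁) + 1 * (A₂ - B₂) = -(A - B) := by exact_mod_cast hxreg
      linarith
    refine ⟨θ, χ₂, χ₁, k, (A₂ : ℤ) - B₂, (A : ℤ) - B, hθ, hmul χ₂ (Or.inr (Or.inl rfl)), hδ, ?_, ?_,
      ?_, ?_, ?_, ?_, ?_, hsqζ, ?_⟩
    · rw [hABx]; push_cast; ring
    · rw [hd₂1]; exact_mod_cast hd₁'
    · rw [hd₁1]; exact_mod_cast hd₂'
    · rw [hx₂]; push_cast; ring
    · rw [← hx₂', abs_le]
      constructor <;> linarith [Int.natCast_nonneg A₁, Int.natCast_nonneg B₁]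
    · intro m hm
      rw [hv₁ m hm, h1]
      push_cast
      ring
    · intro g hg
      have h3 := hreg' g hg
      rw [h1, h2] at h3
      push_cast at h3
      linear_combination -h3
    · rw [← hWS, hx₁, hx₂, hd₁1, hd₂1]
      have h3 : (d₂ : ℂ) = k * p + 1 := by exact_mod_cast hd₁'
      have h4 : (d₁ : ℂ) = (k + 1) * p - 1 := by exact_mod_cast hd₂'
      have h5 : (A₁ : ℂ) - B₁ = (A₂ - B₂) + (A - B) := by exact_mod_cast hx₂'
      rw [h3, h4, h5, hδ2]
      push_cast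
      ring
  · exfalso
    rw [h1] at e₁ e₃
    rw [h2] at e₂ e₃
    have h3 : (0 : ℤ) ≤ p * (A₁ + B₁) := by positivity
    have h4 : (0 : ℤ) ≤ p * (A₂ + B₂) := by positivity
    linarith

/-- **The principal block.** -/
theorem principal_block [Fintype (LL (P : Subgroup G) K)] (hperf : commutator G = ⊤) :
    ∃ (χ : IrrCharacter G) (a : ℤ) (d A B : ℕ) (Ω : Type) (_ : Fintype Ω) (Ψ : Ω → IrrCharacter G),
      (χ : G → ℂ) ≠ 1 ∧ (a = 1 ∨ a = -1) ∧ 2 * Fintype.card Ω = p - 1 ∧ 1 < d ∧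
      (χ : G → ℂ) 1 = d ∧ (χ : G → ℂ) x = (A : ℂ) - B ∧ (d : ℤ) + (p - 1) * a = p * (A + B) ∧
      (∀ m : ZMod p, m ≠ 0 → (χ : G → ℂ) (u z m) = a) ∧
      (∀ (ω : Ω) (g : G), ¬ p ∣ orderOf g → (Ψ ω : G → ℂ) g = a + (χ : G → ℂ) g) ∧
      (∀ ω, ∑ m : (ZMod p)ˣ, (Ψ ω : G → ℂ) (u z (m : ZMod p)) = -2 * a) ∧
      Function.Injective Ψ ∧ (∀ ω, Ψ ω ≠ χ ∧ (Ψ ω : G → ℂ) ≠ 1) ∧
      (∀ χ' : IrrCharacter G, (∀ (g : G) (l : LL (P : Subgroup G) K),
        (χ' : G → ℂ) (g * ((l : K) : G)) = (χ' : G → ℂ) g) → (χ' : G → ℂ) ≠ 1 → χ' ≠ χ →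
        (∀ ω, χ' ≠ Ψ ω) → ∀ m : ZMod p, m ≠ 0 → (χ' : G → ℂ) (u z m) = 0) ∧
      (1 + a * ((A : ℂ) - B) ^ 2 / d - a * (a + ((A : ℂ) - B)) ^ 2 / (d + a) =
        (Nat.card (Subgroup.centralizer ({x} : Set G)) : ℂ) ^ 2 * p /
      ((Nat.card G : ℂ) * Nat.card (LL (P : Subgroup G) K))) := by
  classical
  have := finite_irr (G := G)
  have := Fintype.ofFinite (IrrCharacter G)
  have hp5 := S.gt
  have hp0 : (p : ℂ) ≠ 0 := Nat.cast_ne_zero.2 hp.out.ne_zero
  let θ : IrrCharacter (LL (P : Subgroup G) K) := ⟨1, Cfsg.Agent.Characters.Core.isIrr_one⟩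
  let o : IrrCharacter G := ⟨1, Cfsg.Agent.Characters.Core.isIrr_one⟩
  have hθ1 : (θ : LL (P : Subgroup G) K → ℂ) 1 = 1 := rfl
  have ho : ∀ g, (o : G → ℂ) g = 1 := fun _ => rfl
  have hne1 : ∀ ψ : IrrCharacter G, (ψ : G → ℂ) ≠ 1 ↔ ψ ≠ o := by
    intro ψ
    exact ⟨fun hψ h' => hψ (by rw [h']), fun hψ h' => hψ (Subtype.ext h')⟩
  have hDDo : ∀ y, DD (θ : LL (P : Subgroup G) K → ℂ) (o : G → ℂ) y = 1 := by
    intro y
    exact DD_of_mul θ (o : G → ℂ) (fun g l => (mul_one (1 : ℂ)).symm) y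
  have h10 : (1 : ZMod p) ≠ 0 := one_ne_zero
  obtain ⟨χ₁, χ₂, a₁, a₂, Ω, hΩ, Ψ, ε, h12, ha₁, ha₂, hε, hcardΩ, hW, hreg, hv₁, hv₂, hsumΨ, hmul,
    hall, hinj, hdisj, hsq⟩ := PM2Block.main P S.loc S.cen S.idx (by omega) S.ord S.mem θ o
      (by
        have h1 : charDegree (o : G → ℂ) = 1 := by
          have h2 := irr_one_eq_charDegree o.2
          rw [ho] at h2
          exact_mod_cast h2.symm
        rw [h1]
        exact hp.out.not_dvd_one) h10 (by rw [hDDo]; exact one_ne_zero)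
  have hocase := hall o ⟨1, h10, by rw [hDDo]; exact one_ne_zero⟩
  have hoΨ : ∀ ω, o ≠ Ψ ω := by
    intro ω hω
    have h1 := hsumΨ ω
    rw [← hω] at h1
    simp only [ho] at h1
    rw [Finset.sum_const, Finset.card_univ, ZMod.card_units, nsmul_eq_mul, mul_one,
      Nat.cast_sub hp.out.one_lt.le] at h1
    have h2 : (p : ℤ) - 1 = -2 * ε ω := by exact_mod_cast h1
    rcases hε ω with h | h <;> rw [h] at h2 <;> omega
  obtain ⟨χ, a, hoχ, ha, hW', hreg', hv, hall', hdisj'⟩ : ∃ (χ : IrrCharacter G) (a : ℤ), χ ≠ o ∧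
      (a = 1 ∨ a = -1) ∧
      (∀ (W : IrrCharacter G → ℂ) (T : ℂ), (∀ m : ZMod p, m ≠ 0 →
        ∑ χ, W χ * conj (DD (θ : LL (P : Subgroup G) K → ℂ) (χ : G → ℂ) (u z m)) = T) →
        ∀ ω, W o + a * W χ - ε ω * W (Ψ ω) = T) ∧
      (∀ g : G, ¬ p ∣ orderOf g → ∀ ω,
        1 + a * (χ : G → ℂ) g = ε ω * (Ψ ω : G → ℂ) g) ∧
      (∀ m : ZMod p, m ≠ 0 → (χ : G → ℂ) (u z m) = a) ∧
      (∀ χ' : IrrCharacter G, (∃ m : ZMod p, m ≠ 0 ∧
        DD (θ : LL (P : Subgroup G) K → ℂ) (χ' : G → ℂ) (u z m) ≠ 0) →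
          χ' = o ∨ χ' = χ ∨ ∃ ω, χ' = Ψ ω) ∧ (∀ ω, Ψ ω ≠ χ) := by
    rcases hocase with h1 | h1 | ⟨ω, h1⟩
    · have ha : a₁ = 1 := by
        have h2 := hv₁ 1 h10
        rw [← h1, ho] at h2
        exact_mod_cast h2.symm
      subst ha
      refine ⟨χ₂, a₂, ?_, ha₂, ?_, ?_, hv₂, ?_, fun ω => (hdisj ω).2⟩
      · rw [h1]; exact h12.symm
      · intro W T hT ω
        have h2 := hW W T hT ω
        rw [← h1] at h2
        rw [← h2]
        push_cast
        ring
      · intro g hg ω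
        have h2 := hreg g hg ω
        rw [← h1, ho] at h2
        rw [← h2]
        push_cast
        ring
      · intro χ' hχ'
        rw [h1]
        exact hall χ' hχ'
    · have ha : a₂ = 1 := by
        have h2 := hv₂ 1 h10
        rw [← h1, ho] at h2
        exact_mod_cast h2.symm
      subst ha
      refine ⟨χ₁, a₁, ?_, ha₁, ?_, ?_, hv₁, ?_, fun ω => (hdisj ω).1⟩
      · rw [h1]; exact h12
      · intro W T hT ω
        have h2 := hW W T hT ω
        rw [← h1] at h2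
        rw [← h2]
        push_cast
        ring
      · intro g hg ω
        have h2 := hreg g hg ω
        rw [← h1, ho] at h2
        rw [← h2]
        push_cast
        ring
      · intro χ' hχ'
        rcases hall χ' hχ' with h2 | h2 | h2
        · exact Or.inr (Or.inl h2)
        · left; rw [h1]; exact h2
        · exact Or.inr (Or.inr h2)
    · exact absurd h1 (hoΨ ω)
  obtain ⟨d, hd, hd1⟩ := isIrr_apply_one χ.2
  obtain ⟨A, B, hAB, hABx⟩ := S.bound (isIrr_isCharacter χ.2)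
  rw [sum_const S hv, hd1] at hAB
  have e₁ : (d : ℤ) + (p - 1) * a = p * (A + B) := by exact_mod_cast hAB
  have hd2 : 1 < d := by
    by_contra hcon
    have h1 : d = 1 := by omega
    apply (hne1 χ).2 hoχ
    obtain ⟨f, hf⟩ := Cfsg.Agent.Characters.Linear.exists_hom_of_isIrrCharacter χ.2
      (by rw [hd1, h1, Nat.cast_one])
    rw [hf]
    funext g
    have h2 : g ∈ commutator G := by rw [hperf]; trivial
    have h3 := Abelianization.commutator_subset_ker f h2
    rw [MonoidHom.mem_ker] at h3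
    rw [h3]
    rfl
  have haa : a * a = 1 := by rcases ha with h | h <;> rw [h] <;> norm_num
  have haC : (a : ℂ) * a = 1 := by exact_mod_cast haa
  have hεa : ∀ ω, ε ω = a := by
    intro ω
    have h1 := hreg' 1 (one_regular S) ω
    obtain ⟨e, he, he1⟩ := isIrr_apply_one (Ψ ω).2
    rw [hd1, he1] at h1
    have h2 : 1 + a * (d : ℤ) = ε ω * e := by exact_mod_cast h1
    have hdZ : (1 : ℤ) < d := by exact_mod_cast hd2
    have heZ : (0 : ℤ) < e := by exact_mod_cast he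
    rcases ha with h | h <;> rcases hε ω with h' | h' <;> rw [h, h'] at h2 ⊢ <;> exfalso <;> linarith
  have hΨ : ∀ (ω : Ω) (g : G), ¬ p ∣ orderOf g → (Ψ ω : G → ℂ) g = a + (χ : G → ℂ) g := by
    intro ω g hg
    have h1 := hreg' g hg ω
    rw [hεa] at h1
    linear_combination (-(Ψ ω : G → ℂ) g + (χ : G → ℂ) g) * haC - (a : ℂ) * h1
  have hΩne : Nonempty Ω := by
    rw [← Fintype.card_pos_iff]
    omega
  refine ⟨χ, a, d, A, B, Ω, hΩ, Ψ, (hne1 χ).2 hoχ, ha, hcardΩ, hd2, hd1, hABx, e₁, hv, hΨ, ?_, hinj,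
    fun ω => ⟨hdisj' ω, (hne1 _).2 (hoΨ ω).symm⟩, ?_, ?_⟩
  · intro ω
    rw [hsumΨ, hεa]
  · intro χ' hχ' h1 hχχ hΨχ m hm
    by_contra hcon
    have h2 : ∀ (g : G) (l : LL (P : Subgroup G) K), (χ' : G → ℂ) (g * ((l : K) : G)) =
        (χ' : G → ℂ) g * (θ : LL (P : Subgroup G) K → ℂ) l := by
      intro g l
      rw [hχ' g l]
      exact (mul_one _).symm
    rcases hall' χ' ⟨m, hm, by rw [DD_of_mul θ _ h2]; exact hcon⟩ with h3 | h3 | ⟨ω, h3⟩
    · exact (hne1 χ').1 h1 h3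
    · exact hχχ h3
    · exact hΨχ ω h3
  · obtain ⟨ω⟩ := hΩne
    have hWS := hW' (fun χ => (χ : G → ℂ) x * (χ : G → ℂ) x / (χ : G → ℂ) 1) _
      (fun m hm => S.weight (θ : LL (P : Subgroup G) K → ℂ) hθ1 hm) ω
    rw [hεa, hΨ ω x (x_regular S), hΨ ω 1 (one_regular S), hd1, hABx, ho, ho] at hWS
    rw [← hWS]
    ring

end Cfsg.Agent.H656.PM2Eq
end

-- part: H656/PM2Arith
section
/-!
# The numerical contradiction
-/

set_option autoImplicit false

namespace Cfsg.Agent.H656.PM2Arith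

/-- Upper bound for the block of `ζ`. -/
theorem upper {p k r s : ℝ} (hp : 7 ≤ p) (hk : 1 ≤ k) (hs : |s| ≤ k) (hr : |r| ≤ |s| + 1) :
    r ^ 2 / (k * p + 1) - s ^ 2 / ((k + 1) * p - 1) ≤ (7 * p - 5) / (2 * p ^ 2) := by
  have hD1 : 0 < k * p + 1 := by nlinarith
  have hD2 : 0 < (k + 1) * p - 1 := by nlinarith
  have hD12 : k * p + 1 ≤ (k + 1) * p - 1 := by nlinarith
  have hs0 : 0 ≤ |s| := abs_nonneg s
  have h1 : r ^ 2 ≤ (|s| + 1) ^ 2 := by
    rw [← sq_abs r]
    exact pow_le_pow_left₀ (abs_nonneg r) hr 2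
  have h2 : s ^ 2 = |s| ^ 2 := (sq_abs s).symm
  have h3 : r ^ 2 / (k * p + 1) ≤ (|s| + 1) ^ 2 / (k * p + 1) :=
    div_le_div_of_nonneg_right h1 hD1.le
  have h4 : (|s| + 1) ^ 2 / (k * p + 1) - |s| ^ 2 / ((k + 1) * p - 1) ≤
      (k + 1) ^ 2 / (k * p + 1) - k ^ 2 / ((k + 1) * p - 1) := by
    have h5 : (|s| + 1) ^ 2 / (k * p + 1) - |s| ^ 2 / ((k + 1) * p - 1) =
        |s| ^ 2 * (1 / (k * p + 1) - 1 / ((k + 1) * p - 1)) + (2 * |s| + 1) * (1 / (k * p + 1)) := by
      ring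
    have h6 : (k + 1) ^ 2 / (k * p + 1) - k ^ 2 / ((k + 1) * p - 1) =
        k ^ 2 * (1 / (k * p + 1) - 1 / ((k + 1) * p - 1)) + (2 * k + 1) * (1 / (k * p + 1)) := by
      ring
    rw [h5, h6]
    have h7 : 0 ≤ 1 / (k * p + 1) - 1 / ((k + 1) * p - 1) := by
      rw [sub_nonneg]
      exact one_div_le_one_div_of_le hD1 hD12
    have h8 : |s| ^ 2 ≤ k ^ 2 := pow_le_pow_left₀ hs0 hs 2
    have h9 : 0 ≤ 1 / (k * p + 1) := by positivity
    have h10 := mul_le_mul_of_nonneg_right h8 h7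
    have h11 := mul_le_mul_of_nonneg_right (by linarith : 2 * |s| + 1 ≤ 2 * k + 1) h9
    linarith
  have h12 : (k + 1) ^ 2 / (k * p + 1) - k ^ 2 / ((k + 1) * p - 1) ≤ (7 * p - 5) / (2 * p ^ 2) := by
    rw [div_sub_div _ _ hD1.ne' hD2.ne', div_le_div_iff₀ (by positivity) (by positivity)]
    have hK : 0 ≤ k * (k + 1) - 2 := by nlinarith
    have h13 : 0 ≤ (k * (k + 1) - 2) * (p ^ 2 * (p - 1)) := by
      apply mul_nonneg hK
      apply mul_nonneg (by positivity)
      linarith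
    have h14 : 0 ≤ 7 * p ^ 2 - 12 * p + 5 := by nlinarith
    nlinarith [h13, h14]
  rw [h2]
  linarith

/-- Lower bound for the principal block, case `a = -1`. -/
theorem lower_neg {p n d v : ℝ} (hp : 7 ≤ p) (hn : 0 ≤ n) (hd : d = p * n + (p - 1))
    (hv : |v| ≤ n) : 1 - 2 / p < 1 - v ^ 2 / d + (v - 1) ^ 2 / (d - 1) := by
  have hpn : 0 ≤ p * n := by positivity
  have hd0 : 0 < d := by rw [hd]; linarith
  have hd1 : 0 < d - 1 := by rw [hd]; linarith
  have hv' : v ≤ n := (le_abs_self v).trans hv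
  have h1 : -v ^ 2 / d + (v - 1) ^ 2 / (d - 1) = (v ^ 2 - 2 * v * d + d) / (d * (d - 1)) := by
    rw [div_add_div _ _ hd0.ne' hd1.ne']
    congr 1
    ring
  have h2 : -2 / p < (v ^ 2 - 2 * v * d + d) / (d * (d - 1)) := by
    rw [div_lt_div_iff₀ (by linarith) (by positivity)]
    have h3 : v * d ≤ n * d := mul_le_mul_of_nonneg_right hv' hd0.le
    have h4 : 0 ≤ v ^ 2 := sq_nonneg v
    have h5 : 0 ≤ p * v ^ 2 := by positivity
    have h6 : p * (v * d) ≤ p * (n * d) := mul_le_mul_of_nonneg_left h3 (by linarith)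
    have h7 : 0 < d * (3 * p - 4) := mul_pos hd0 (by linarith)
    have h8 : d * (p * n) = d * (d - (p - 1)) := by rw [hd]; ring
    nlinarith [h5, h6, h7, h8]
  have h3 : 1 - v ^ 2 / d + (v - 1) ^ 2 / (d - 1) = 1 + (-v ^ 2 / d + (v - 1) ^ 2 / (d - 1)) := by
    ring
  rw [h3, h1]
  have h4 : -2 / p = -(2 / p) := by ring
  rw [h4] at h2
  linarith

/-- Lower bound for the principal block, case `a = 1`. -/
theorem lower_pos {p n d v : ℝ} (hp : 7 ≤ p) (hn : 1 ≤ n) (hd : d = p * n + 1)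
    (hv : |v| ≤ n + 1) : 1 - 5 / (p + 2) ≤ 1 + v ^ 2 / d - (1 + v) ^ 2 / (d + 1) := by
  have hpn : p ≤ p * n := by nlinarith
  have hd0 : 0 < d := by rw [hd]; linarith
  have hd1 : 0 < d + 1 := by linarith
  have hv' : v ≤ n + 1 := (le_abs_self v).trans hv
  have h1 : v ^ 2 / d - (1 + v) ^ 2 / (d + 1) = (v ^ 2 - 2 * v * d - d) / (d * (d + 1)) := by
    rw [div_sub_div _ _ hd0.ne' hd1.ne']
    congr 1
    ring
  have h2 : -5 / (p + 2) ≤ (v ^ 2 - 2 * v * d - d) / (d * (d + 1)) := by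
    rw [div_le_div_iff₀ (by linarith) (by positivity)]
    have h3 : v * d ≤ (n + 1) * d := mul_le_mul_of_nonneg_right hv' hd0.le
    have h5 : 0 ≤ (p + 2) * v ^ 2 := by positivity
    have h6 : (p + 2) * (v * d) ≤ (p + 2) * ((n + 1) * d) := mul_le_mul_of_nonneg_left h3 (by linarith)
    have h7 : 0 ≤ d * ((n - 1) * (3 * p - 4)) := by
      apply mul_nonneg hd0.le
      apply mul_nonneg (by linarith)
      linarith
    have h8 : d * (p * n) = d * (d - 1) := by rw [hd]; ring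
    nlinarith [h5, h6, h7, h8]
  have h4 : -5 / (p + 2) = -(5 / (p + 2)) := by ring
  rw [h4] at h2
  linarith

/-- **The contradiction.** -/
theorem contra {p k r s d v : ℝ} {T : ℝ} (hp : 7 ≤ p) (hk : 1 ≤ k) (hs : |s| ≤ k)
    (hr : |r| ≤ |s| + 1)
    (h1 : r ^ 2 / (k * p + 1) - s ^ 2 / ((k + 1) * p - 1) + 1 / (p - 2) = T)
    (hcase : (∃ n, 0 ≤ n ∧ d = p * n + (p - 1) ∧ |v| ≤ n ∧
        1 - v ^ 2 / d + (v - 1) ^ 2 / (d - 1) = T) ∨
      (∃ n, 1 ≤ n ∧ d = p * n + 1 ∧ |v| ≤ n + 1 ∧ 1 + v ^ 2 / d - (1 + v) ^ 2 / (d + 1) = T ∧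
        (11 ≤ p ∨ (p = 7 ∧ n = 1 ∧ v = 0)))) : False := by
  have hu := upper hp hk hs hr
  have hT : T ≤ (7 * p - 5) / (2 * p ^ 2) + 1 / (p - 2) := by linarith
  have hp0 : 0 < p := by linarith
  have hp2 : 0 < p - 2 := by linarith
  rcases hcase with ⟨n, hn, hd, hv, h2⟩ | ⟨n, hn, hd, hv, h2, h3 | ⟨h3, h4, h5⟩⟩
  · have hl := lower_neg hp hn hd hv
    rw [h2] at hl
    have h3 : (7 * p - 5) / (2 * p ^ 2) + 1 / (p - 2) + 2 / p ≤ 1 := by
      rw [div_add_div _ _ (by positivity) hp2.ne', div_add_div _ _ (by positivity) hp0.ne',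
        div_le_one (by positivity)]
      have e1 : 0 ≤ p ^ 2 * (p - 7) := mul_nonneg (by positivity) (by linarith)
      nlinarith
    linarith
  · have hl := lower_pos hp hn hd hv
    rw [h2] at hl
    have h3 : (7 * p - 5) / (2 * p ^ 2) + 1 / (p - 2) + 5 / (p + 2) < 1 := by
      rw [div_add_div _ _ (by positivity) hp2.ne', div_add_div _ _ (by positivity) (by positivity),
        div_lt_one (by positivity)]
      have e1 : 0 ≤ p ^ 3 * (p - 11) := mul_nonneg (by positivity) (by linarith)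
      have e2 : 0 < p ^ 3 := by positivity
      have e3 : 0 < p ^ 2 := by positivity
      nlinarith
    linarith
  · rw [h3] at hT hd
    rw [h5] at h2
    rw [hd, h4] at h2
    norm_num at h2 hT
    linarith

end Cfsg.Agent.H656.PM2Arith
end

-- part: H656/PM2Seven
section
/-!
# The degree of the companion of `ζ`

`zeta_block` gives characters `χ₁`, `χ₂` of degrees `k p + 1`, `(k + 1) p - 1` with `χ₂ = χ₁ + ζ` on
`p`-regular elements. We show that `k = 0`.
-/

set_option autoImplicit false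
set_option linter.unusedSectionVars false
set_option linter.unusedVariables false

namespace Cfsg.Agent.H656.PM2Seven

open Cfsg ZMod
open scoped ComplexConjugate
open Cfsg.Agent.Blocks.Basic
open Cfsg.Agent.Blocks.CyclicGroup
open Cfsg.Agent.H593.D1Local
open Cfsg.Agent.H593.D1Sec
open Cfsg.Agent.H656.PM2Centre
open Cfsg.Agent.H656.PM2Count
open Cfsg.Agent.H656.PM2Block
open Cfsg.Agent.H656.PM2Eq
open Cfsg.Agent.Characters.Core (isIrr_isCharacter finite_irr isIrr_apply_one isCharacter_iff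
  isCharacter_mul isCharacter_conj isCharacter_sum isCharacter_nsmul)

variable {G : Type*} [Group G] [Fintype G] {p : ℕ} [hp : Fact p.Prime] {K : Subgroup G}
  {P : Sylow p G} {z x : G} (S : Sit P K z x)

include S

/-- **Expansion of `ζ ζ̄`.** -/
theorem expand [Fintype (LL (P : Subgroup G) K)] {ζ : G → ℂ} (hζ : IsIrrCharacter G ζ)
    {θ : LL (P : Subgroup G) K → ℂ} (hθ : ∀ l, θ l * conj (θ l) = 1)
    (hζθ : ∀ (g : G) (l : LL (P : Subgroup G) K), ζ (g * ((l : K) : G)) = ζ g * θ l)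
    (χ : IrrCharacter G) {Ω : Type} [Fintype Ω] (Ψ : Ω → IrrCharacter G)
    (hχ1 : (χ : G → ℂ) ≠ 1) (hinj : Function.Injective Ψ)
    (hdisj : ∀ ω, Ψ ω ≠ χ ∧ (Ψ ω : G → ℂ) ≠ 1)
    (hall : ∀ χ' : IrrCharacter G, (∀ (g : G) (l : LL (P : Subgroup G) K),
        (χ' : G → ℂ) (g * ((l : K) : G)) = (χ' : G → ℂ) g) → (χ' : G → ℂ) ≠ 1 → χ' ≠ χ →
        (∀ ω, χ' ≠ Ψ ω) → ∀ m : ZMod p, m ≠ 0 → (χ' : G → ℂ) (u z m) = 0) :
    ∃ (m : ℕ) (n : Ω → ℕ) (Δ : G → ℂ), IsCharacter G Δ ∧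
      (∀ i : ZMod p, i ≠ 0 → Δ (u z i) = 0) ∧
      ∀ g, ζ g * conj (ζ g) = 1 + m * (χ : G → ℂ) g + ∑ ω, (n ω : ℂ) * (Ψ ω : G → ℂ) g + Δ g := by
  classical
  have := finite_irr (G := G)
  have := Fintype.ofFinite (IrrCharacter G)
  let o : IrrCharacter G := ⟨1, Cfsg.Agent.Characters.Core.isIrr_one⟩
  have hne1 : ∀ ψ : IrrCharacter G, (ψ : G → ℂ) ≠ 1 ↔ ψ ≠ o := by
    intro ψ
    exact ⟨fun hψ h' => hψ (by rw [h']), fun hψ h' => hψ (Subtype.ext h')⟩
  have hΞ : IsCharacter G (fun g => ζ g * conj (ζ g)) :=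
    isCharacter_mul (isIrr_isCharacter hζ) (isCharacter_conj (isIrr_isCharacter hζ))
  obtain ⟨c, hc⟩ := isCharacter_iff.1 hΞ
  -- the multiplicities
  have hcin : ∀ ψ : IrrCharacter G, (c ψ : ℂ) =
      classInner (fun g => ζ g * conj (ζ g)) (ψ : G → ℂ) := by
    intro ψ
    have h1 : (∑ ψ : IrrCharacter G, c ψ • (ψ : G → ℂ)) =
        ∑ ψ : IrrCharacter G, (c ψ : ℂ) • (ψ : G → ℂ) := by
      refine Finset.sum_congr rfl fun ψ _ => ?_
      rw [Nat.cast_smul_eq_nsmul]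
    rw [hc, h1, Cfsg.Agent.Characters.Core.classInner_sum_smul_irr]
  have hco : c o = 1 := by
    have h1 := hcin o
    rw [Cfsg.Agent.Characters.Core.classInner_def] at h1
    have h2 := Cfsg.Agent.Characters.Core.classInner_irr_self hζ
    rw [Cfsg.Agent.Characters.Core.classInner_def] at h2
    have h3 : ∀ g : G, ζ g * conj (ζ g) * conj ((o : G → ℂ) g) = ζ g * conj (ζ g) := by
      intro g
      show ζ g * conj (ζ g) * conj (1 : ℂ) = _
      rw [map_one, mul_one]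
    rw [Finset.sum_congr rfl fun g _ => h3 g, h2] at h1
    exact_mod_cast h1
  have hcL : ∀ ψ : IrrCharacter G, c ψ ≠ 0 → ∀ (g : G) (l : LL (P : Subgroup G) K),
        (ψ : G → ℂ) (g * ((l : K) : G)) = (ψ : G → ℂ) g := by
    intro ψ hψ g l
    obtain ⟨ω, hω, hω'⟩ := Cfsg.Agent.CharactersDeep.SmallDegree.exists_central_mul ψ.2
      (fun g => Subgroup.mem_center_iff.1 (S.cen l) g)
    have h1 : classInner (fun g => ζ g * conj (ζ g)) (ψ : G → ℂ) =
        conj ω * classInner (fun g => ζ g * conj (ζ g)) (ψ : G → ℂ) := by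
      rw [Cfsg.Agent.Characters.Core.classInner_def]
      have h2 : ∑ g : G, ζ g * conj (ζ g) * conj ((ψ : G → ℂ) g) =
          conj ω * ∑ g : G, ζ g * conj (ζ g) * conj ((ψ : G → ℂ) g) := by
        rw [Finset.mul_sum]
        rw [← Equiv.sum_comp (Equiv.mulRight ((l : K) : G))]
        refine Finset.sum_congr rfl fun g _ => ?_
        rw [Equiv.coe_mulRight, hζθ, hω', map_mul, map_mul]
        linear_combination (ζ g * conj (ζ g) * conj ω * conj ((ψ : G → ℂ) g)) * hθ l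
      rw [mul_left_comm, ← h2]
    rw [← hcin] at h1
    have h3 : conj ω = 1 := by
      have h4 : (c ψ : ℂ) ≠ 0 := by exact_mod_cast hψ
      apply mul_right_cancel₀ h4
      rw [← h1, one_mul]
    have h5 : ω = 1 := by
      have := congrArg conj h3
      rwa [Complex.conj_conj, map_one] at this
    rw [hω' g, h5, one_mul]
  let R : Finset (IrrCharacter G) := Finset.univ.filter fun ψ => ψ ≠ o ∧ ψ ≠ χ ∧ ∀ ω, ψ ≠ Ψ ω
  refine ⟨c χ, fun ω => c (Ψ ω), ∑ ψ ∈ R, c ψ • (ψ : G → ℂ),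
    isCharacter_sum _ fun ψ _ => isCharacter_nsmul _ (isIrr_isCharacter ψ.2), ?_, ?_⟩
  · intro i hi
    rw [Finset.sum_apply]
    refine Finset.sum_eq_zero fun ψ hψ => ?_
    rw [Finset.mem_filter] at hψ
    rw [Pi.smul_apply]
    by_cases h1 : c ψ = 0
    · rw [h1, zero_smul]
    · rw [hall ψ (hcL ψ h1) ((hne1 ψ).2 hψ.2.1) hψ.2.2.1 hψ.2.2.2 i hi, smul_zero]
  · intro g
    have h1 := congrFun hc g
    rw [Finset.sum_apply] at h1
    simp only [Pi.smul_apply, nsmul_eq_mul] at h1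
    rw [h1, Finset.sum_apply]
    simp only [Pi.smul_apply, nsmul_eq_mul]
    have hχo : χ ≠ o := (hne1 χ).1 hχ1
    have h2 : Finset.univ.filter (fun ψ : IrrCharacter G => ψ ∉ R) =
        insert o (insert χ (Finset.univ.image Ψ)) := by
      ext ψ
      simp only [R, Finset.mem_filter, Finset.mem_univ, true_and, not_and_or, not_not,
        not_forall, Finset.mem_insert, Finset.mem_image]
      constructor
      · rintro (h | h | ⟨ω, h⟩)
        · exact Or.inl h
        · exact Or.inr (Or.inl h)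
        · exact Or.inr (Or.inr ⟨ω, h.symm⟩)
      · rintro (h | h | ⟨ω, h⟩)
        · exact Or.inl h
        · exact Or.inr (Or.inl h)
        · exact Or.inr (Or.inr ⟨ω, h.symm⟩)
    rw [← Finset.sum_filter_add_sum_filter_not Finset.univ (fun ψ : IrrCharacter G => ψ ∈ R), h2,
      Finset.sum_insert, Finset.sum_insert, Finset.sum_image (fun ω _ ω' _ h => hinj h)]
    · have h3 : Finset.univ.filter (fun ψ : IrrCharacter G => ψ ∈ R) = R := by ext; simp
      rw [h3, hco]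
      have h4 : (o : G → ℂ) g = 1 := rfl
      rw [h4]
      push_cast
      ring
    · rw [Finset.mem_image]
      rintro ⟨ω, -, h⟩
      exact (hdisj ω).1 h
    · rw [Finset.mem_insert, Finset.mem_image]
      rintro (h | ⟨ω, -, h⟩)
      · exact hχo h.symm
      · exact (hne1 _).1 (hdisj ω).2 h

omit S [Fintype G] in
theorem seven_arith {m N n A B A' B' : ℤ} (hm : 0 ≤ m) (hN : 0 ≤ N) (hn : 1 ≤ n) (hA' : 0 ≤ A')
    (hB' : 0 ≤ B') (h1 : 10 = 6 * (1 + m) - 2 * N)
    (h2 : 25 = 1 + m * (7 * n + 1) + N * (7 * n + 2) + 7 * (A' + B'))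
    (h3 : 1 = 1 + m * (A - B) + N * (1 + (A - B)) + (A' - B')) (h4 : A + B = n + 1) :
    n = 1 ∧ A - B = 0 := by
  have hN' : N = 3 * m - 2 := by linarith
  have hm1 : 1 ≤ m := by
    by_contra hcon
    have : m = 0 := by omega
    rw [this] at hN'
    omega
  have hm2 : m = 1 := by
    by_contra hcon
    have h5 : 2 ≤ m := by omega
    have h6 : 4 ≤ N := by omega
    nlinarith
  subst hm2
  have hN1 : N = 1 := by omega
  subst hN1
  have hn1 : n = 1 := by omega
  subst hn1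
  refine ⟨rfl, ?_⟩
  omega

/-- **The companion of `ζ` has degree `p - 1`.** -/
theorem k_eq_zero [Fintype (LL (P : Subgroup G) K)] (hperf : commutator G = ⊤) {ζ : G → ℂ}
    (hζ : IsIrrCharacter G ζ)
    (hζ1 : ζ 1 = (p : ℂ) - 2)
    (θ : IrrCharacter (LL (P : Subgroup G) K)) {k : ℕ} {r δ : ℤ}
    (hθ : ∀ (g : G) (l : LL (P : Subgroup G) K), ζ (g * ((l : K) : G)) =
        ζ g * (θ : LL (P : Subgroup G) K → ℂ) l)
    (hδ : δ = 1 ∨ δ = -1) (hζx : ζ x = δ) (hrδ : |r + δ| ≤ k)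
    (hsq : ∑ m : (ZMod p)ˣ, ζ (u z (m : ZMod p)) * conj (ζ (u z (m : ZMod p))) = 2 * p - 4)
    (hE : (r : ℂ) ^ 2 / (k * p + 1) - ((r : ℂ) + δ) ^ 2 / ((k + 1) * p - 1) + 1 / (p - 2) =
        (Nat.card (Subgroup.centralizer ({x} : Set G)) : ℂ) ^ 2 * p /
      ((Nat.card G : ℂ) * Nat.card (LL (P : Subgroup G) K))) : k = 0 := by
  classical
  have := finite_irr (G := G)
  have := Fintype.ofFinite (IrrCharacter G)
  have hp5 := S.gt
  have hp7 : 7 ≤ p := by
    have h1 : p ≠ 6 := by rintro rfl; exact absurd hp.out (by norm_num)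
    omega
  by_contra hk
  have hk1 : 1 ≤ k := Nat.one_le_iff_ne_zero.2 hk
  obtain ⟨χ, a, d, A, B, Ω, hΩ, Ψ, hχ1, ha, hcardΩ, hd1, hχd, hχx, e₁, hχP, hΨ, hΨsum, hinj, hdisj,
    hall, hE0⟩ := principal_block S hperf
  have hER : (r : ℝ) ^ 2 / (k * p + 1) - ((r : ℝ) + δ) ^ 2 / ((k + 1) * p - 1) + 1 / (p - 2) =
        (Nat.card (Subgroup.centralizer ({x} : Set G)) : ℝ) ^ 2 * p /
      ((Nat.card G : ℝ) * Nat.card (LL (P : Subgroup G) K)) := by
    apply Complex.ofReal_injective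
    push_cast
    exact hE
  have hER0 : 1 + a * ((A : ℝ) - B) ^ 2 / d - a * (a + ((A : ℝ) - B)) ^ 2 / (d + a) =
        (Nat.card (Subgroup.centralizer ({x} : Set G)) : ℝ) ^ 2 * p /
      ((Nat.card G : ℝ) * Nat.card (LL (P : Subgroup G) K)) := by
    apply Complex.ofReal_injective
    push_cast
    exact hE0
  have hAB : |(A : ℝ) - B| ≤ (A : ℝ) + B := by
    rw [abs_le]
    constructor <;> linarith [Nat.cast_nonneg (α := ℝ) A, Nat.cast_nonneg (α := ℝ) B]
  have hs : |(r : ℝ) + δ| ≤ k := by exact_mod_cast hrδ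
  have hr : |(r : ℝ)| ≤ |(r : ℝ) + δ| + 1 := by
    have h1 : |(δ : ℝ)| = 1 := by rcases hδ with h | h <;> rw [h] <;> norm_num
    have h2 : (r : ℝ) = (r + δ) - δ := by ring
    calc |(r : ℝ)| = |((r : ℝ) + δ) - δ| := by rw [← h2]
      _ ≤ |(r : ℝ) + δ| + |(δ : ℝ)| := abs_sub _ _
      _ = _ := by rw [h1]
  refine PM2Arith.contra (p := p) (k := k) (r := r) (s := r + δ) (d := d) (v := (A : ℝ) - B)
    (by exact_mod_cast hp7) (by exact_mod_cast hk1) hs hr hER ?_
  rcases ha with rfl | rfl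
  · right
    have hn : ∃ n : ℕ, A + B = n + 1 ∧ 1 ≤ n := by
      have h1 : 2 ≤ A + B := by
        by_contra hcon
        have h2 : (A : ℤ) + B ≤ 1 := by exact_mod_cast (by omega : A + B ≤ 1)
        have h3 : (1 : ℤ) < d := by exact_mod_cast hd1
        have h4 : (p : ℤ) * (A + B) ≤ p * 1 := mul_le_mul_of_nonneg_left h2 (by positivity)
        linarith
      exact ⟨A + B - 1, by omega, by omega⟩
    obtain ⟨n, hn, hn1⟩ := hn
    have hnR : (A : ℝ) + B = n + 1 := by exact_mod_cast hn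
    have hdR : (d : ℝ) = p * n + 1 := by
      have h1 : (d : ℝ) + (p - 1) * (1 : ℤ) = p * (A + B) := by exact_mod_cast e₁
      rw [hnR] at h1
      push_cast at h1
      linarith
    refine ⟨n, by exact_mod_cast hn1, hdR, by rw [← hnR]; exact hAB, ?_, ?_⟩
    · rw [← hER0]
      push_cast
      ring
    · by_cases h11 : 11 ≤ p
      · left; exact_mod_cast h11
      · right
        have hp7' : p = 7 := by
          have h8 : p ≠ 8 := by rintro rfl; exact absurd hp.out (by norm_num)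
          have h9 : p ≠ 9 := by rintro rfl; exact absurd hp.out (by norm_num)
          have h10 : p ≠ 10 := by rintro rfl; exact absurd hp.out (by norm_num)
          omega
        refine ⟨by exact_mod_cast hp7', ?_⟩
        have hζ10 : ζ 1 ≠ 0 := by rw [hζ1]; exact ne_two_three hp5
        have hθθ : ∀ l, (θ : LL (P : Subgroup G) K → ℂ) l *
            conj ((θ : LL (P : Subgroup G) K → ℂ) l) = 1 := by
          intro l
          obtain ⟨ω, hω, hω'⟩ := Cfsg.Agent.CharactersDeep.SmallDegree.exists_central_mul hζ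
            (fun g => Subgroup.mem_center_iff.1 (S.cen l) g)
          have h1 := hω' 1
          rw [hθ, mul_comm] at h1
          have h2 := mul_right_cancel₀ hζ10 h1
          rw [h2, Complex.mul_conj, Complex.normSq_eq_norm_sq, hω]
          norm_num
        obtain ⟨m, n', Δ, hΔ, hΔP, hexp⟩ := expand S hζ hθθ hθ χ Ψ hχ1 hinj hdisj hall
        obtain ⟨A', B', hAB', hΔx⟩ := S.bound hΔ
        rw [sum_const S hΔP, mul_zero, add_zero] at hAB'
        have hNsum : ∀ c : ℂ, ∑ ω, (n' ω : ℂ) * c = (∑ ω, n' ω : ℕ) * c := by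
          intro c
          rw [← Finset.sum_mul]
          push_cast
          rfl
        have hp1 : ((p - 1 : ℕ) : ℂ) = p - 1 := by
          rw [Nat.cast_sub hp.out.one_lt.le]
          push_cast
          rfl
        have E1 : (2 : ℂ) * p - 4 = (p - 1) * (1 + m) - 2 * (∑ ω, n' ω : ℕ) := by
          rw [← hsq, Finset.sum_congr rfl fun (i : (ZMod p)ˣ) _ => hexp (u z (i : ZMod p))]
          rw [Finset.sum_add_distrib, Finset.sum_add_distrib, Finset.sum_add_distrib,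
            Finset.sum_const, Finset.card_univ, ZMod.card_units, nsmul_eq_mul, hp1]
          have h1 : ∑ i : (ZMod p)ˣ, (m : ℂ) * (χ : G → ℂ) (u z (i : ZMod p)) = (p - 1) * m := by
            rw [Finset.sum_congr rfl fun (i : (ZMod p)ˣ) _ => by
              rw [hχP (i : ZMod p) (Units.ne_zero i)], Finset.sum_const, Finset.card_univ,
              ZMod.card_units, nsmul_eq_mul, hp1]
            push_cast
            ring
          have h2 : ∑ i : (ZMod p)ˣ, ∑ ω, (n' ω : ℂ) * (Ψ ω : G → ℂ) (u z (i : ZMod p)) =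
              (∑ ω, n' ω : ℕ) * (-2) := by
            rw [Finset.sum_comm, ← hNsum]
            refine Finset.sum_congr rfl fun ω _ => ?_
            rw [← Finset.mul_sum, hΨsum]
            push_cast
            ring
          have h3 : ∑ i : (ZMod p)ˣ, Δ (u z (i : ZMod p)) = 0 :=
            Finset.sum_eq_zero fun i _ => hΔP _ (Units.ne_zero i)
          rw [h1, h2, h3]
          ring
        have E2 : ((p : ℂ) - 2) * (p - 2) = 1 + m * d + (∑ ω, n' ω : ℕ) * (1 + d) +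
            p * (A' + B') := by
          have h1 := hexp 1
          have h2 : ∀ ω, (n' ω : ℂ) * (Ψ ω : G → ℂ) 1 = (n' ω : ℂ) * (1 + d) := by
            intro ω
            rw [hΨ ω 1 (one_regular S), hχd]
            push_cast
            rfl
          rw [Finset.sum_congr rfl fun ω _ => h2 ω, hNsum, hχd, hAB', hζ1] at h1
          rw [← h1, map_sub, Complex.conj_natCast]
          congr 2
          exact (map_ofNat (starRingEnd ℂ) 2).symm
        have E3 : (1 : ℂ) = 1 + m * (A - B) + (∑ ω, n' ω : ℕ) * (1 + (A - B)) + (A' - B') := by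
          have h1 := hexp x
          have h2 : ∀ ω, (n' ω : ℂ) * (Ψ ω : G → ℂ) x = (n' ω : ℂ) * (1 + (A - B)) := by
            intro ω
            rw [hΨ ω x (x_regular S), hχx]
            push_cast
            rfl
          rw [Finset.sum_congr rfl fun ω _ => h2 ω, hNsum, hχx, hΔx, hζx] at h1
          rw [← h1, map_intCast]
          rcases hδ with h | h <;> rw [h] <;> norm_num
        subst hp7'
        have F1 : (10 : ℤ) = 6 * (1 + m) - 2 * (∑ ω, n' ω : ℕ) := by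
          have h1 : ((10 : ℤ) : ℂ) = ((6 * (1 + m) - 2 * (∑ ω, n' ω : ℕ) : ℤ) : ℂ) := by
            push_cast
            push_cast at E1
            linear_combination E1
          exact_mod_cast h1
        have hdZ : (d : ℤ) = 7 * n + 1 := by exact_mod_cast hdR
        have F2 : (25 : ℤ) = 1 + m * (7 * n + 1) + (∑ ω, n' ω : ℕ) * (7 * n + 2) +
            7 * (A' + B') := by
          have h1 : ((25 : ℤ) : ℂ) = ((1 + m * (7 * n + 1) + (∑ ω, n' ω : ℕ) * (7 * n + 2) +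
            7 * (A' + B') : ℤ) : ℂ) := by
            have h2 : (d : ℂ) = 7 * n + 1 := by exact_mod_cast hdZ
            rw [h2] at E2
            push_cast
            push_cast at E2
            linear_combination E2
          exact_mod_cast h1
        have F3 : (1 : ℤ) = 1 + m * (A - B) + (∑ ω, n' ω : ℕ) * (1 + (A - B)) + (A' - B') := by
          exact_mod_cast E3
        obtain ⟨f1, f2⟩ := seven_arith (Int.natCast_nonneg _) (Int.natCast_nonneg _)
          (by exact_mod_cast hn1) (Int.natCast_nonneg _) (Int.natCast_nonneg _) F1 F2 F3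
          (by exact_mod_cast hn)
        exact ⟨by exact_mod_cast f1, by exact_mod_cast f2⟩
  · left
    refine ⟨(A : ℝ) + B, by positivity, ?_, hAB, ?_⟩
    · have h1 : (d : ℝ) + (p - 1) * (-1 : ℤ) = p * (A + B) := by exact_mod_cast e₁
      push_cast at h1
      linarith
    · rw [← hER0]
      push_cast
      ring

end Cfsg.Agent.H656.PM2Seven
end
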